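import Cfsg.Agent.Lib.Fus.L34Type.Shape
import Cfsg.Agent.Lib.Fus.Goldschmidt.Main
import Cfsg.Prelude.Def_TwoFusion

/-!
# When `A` is normal

If the automiser of `B` fixes `Z` then `A` is strongly closed, and then Goldschmidt's theorem makes it normal:
a moved component would give a subgroup of odd order of the automiser of `A` which is transitive.
-/

set_option autoImplicit false
set_option linter.unusedSectionVars false
set_option linter.style.haveILetI false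

namespace Cfsg.Agent.Fus.L34T

open Subgroup Cfsg.Agent.Grp

universe u v

variable {G : Type u} [Group G] [Finite G] {F : Type v} [Field F] [Fintype F] [CharP F 2] (s : Shape G F)

namespace Shape

/-- The automiser of `A` preserves the coordinates of `Z`. -/
def Pres : Prop := ∀ g : ↥(normalizer (s.A : Set G)), ∀ t, (s.th g (0, t)).1 = 0

theorem exists_conj_S {P : Subgroup G} (hP : IsPGroup 2 P) : ∃ h : G, ∀ x ∈ P, h * x * h⁻¹ ∈ (s.S : Subgroup G) := by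
  haveI : Fact (Nat.Prime 2) := ⟨Nat.prime_two⟩
  obtain ⟨Q, hQ⟩ := hP.exists_le_sylow
  obtain ⟨h, hh⟩ := MulAction.exists_smul_eq G Q s.S
  refine ⟨h, fun x hx => ?_⟩
  rw [← hh, Sylow.coe_subgroup_smul, ← Grp.map_conj_eq_smul]
  exact ⟨x, hQ hx, rfl⟩

theorem A_pGroup : IsPGroup 2 s.A := s.S.isPGroup'.to_le s.A_le

/-- A 2-group containing and centralising `A` is `A`. -/
theorem le_A_of_centralizes {U : Subgroup G} (hU : IsPGroup 2 U) (hAU : s.A ≤ U)
    (hc : ∀ u ∈ U, ∀ a ∈ s.A, u * a = a * u) : U ≤ s.A := by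
  obtain ⟨h, hh⟩ := s.exists_conj_S hU
  have hA := (s.conj_A_cases fun a ha => hh a (hAU ha)).resolve_right (s.not_conj h)
  have hle : U.map (MulAut.conj h).toMonoidHom ≤ s.A := by
    rintro _ ⟨u, hu, rfl⟩
    obtain ⟨a, ha, e⟩ : s.e 1 0 0 ∈ s.A.map (MulAut.conj h).toMonoidHom := hA.symm ▸ s.e_mem_A.2 rfl
    refine s.mem_A_of_comm (hh u hu) (s.e_mem_A.2 rfl : s.e 1 0 0 ∈ s.A) (fun hb => one_ne_zero (s.e_mem_B.1 hb)) ?_
    rw [← e, MulEquiv.coe_toMonoidHom, ← map_mul, ← map_mul, hc u hu a ha]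
  refine (eq_of_le_of_card_ge hAU ?_).symm.le
  have := Subgroup.card_le_of_le hle
  rwa [card_map_of_injective (MulAut.conj h).injective] at this

/-- If the automiser of `A` preserves `Z`, then `A` is a Sylow subgroup of the centraliser of `a ∈ A ∖ B`. -/
theorem le_A_of_pres (hp : s.Pres) {a : G} (ha : a ∈ s.A) (haB : a ∉ s.B) {P : Subgroup G} (hP : IsPGroup 2 P)
    (hAP : s.A ≤ P) (hPa : ∀ x ∈ P, x * a = a * x) : P ≤ s.A := by
  haveI : Fact (Nat.Prime 2) := ⟨Nat.prime_two⟩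
  by_contra hne
  haveI : Group.IsNilpotent ↥P := hP.isNilpotent
  have hlt : s.A.subgroupOf P < ⊤ := lt_top_iff_ne_top.2 fun e => hne (subgroupOf_eq_top.1 e)
  obtain ⟨⟨g, hgP⟩, hgN, hgA⟩ := SetLike.exists_of_lt (normalizerCondition_of_isNilpotent _ hlt)
  rw [mem_subgroupOf] at hgA
  have hgN' : g ∈ normalizer (s.A : Set G) := mem_normalizer_fintype fun x hx =>
    mem_subgroupOf.1 ((mem_normalizer_iff.1 hgN ⟨x, hAP hx⟩).1 (mem_subgroupOf.2 hx))
  obtain ⟨n, hn⟩ := hP ⟨g, hgP⟩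
  have hX := s.planeGrp
  have hgn : s.th ⟨g, hgN'⟩ ^ (2 ^ n) = 1 := by
    rw [← map_pow]
    convert map_one s.th
    exact Subtype.ext (by simpa using congrArg Subtype.val hn)
  obtain ⟨y, hy⟩ := hX.mem_upG_of_sq (s.th_mem hgN') (hp _) (hX.sq_eq_one (s.th_mem hgN') hgn)
  obtain ⟨v, rfl⟩ := s.exists_vec ha
  have hv : v.1 ≠ 0 := fun e => haB (s.e_mem_B.2 e)
  have hfix : s.th ⟨g, hgN'⟩ v = v := s.vec_injective (by
    rw [s.vec_th, hPa g hgP, mul_inv_cancel_right])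
  have hy0 : y = 0 := by
    by_contra hy0
    rw [← hy] at hfix
    exact hv ((fix_up hy0 _).1 hfix)
  have hc : ∀ b ∈ s.A, g * b = b * g := fun b hb => by
    obtain ⟨w, rfl⟩ := s.exists_vec hb
    have := s.vec_th ⟨g, hgN'⟩ w
    rw [← hy, hy0, up_zero] at this
    exact mul_inv_eq_iff_eq_mul.1 this.symm
  have hsup : IsPGroup 2 (zpowers g ⊔ s.A : Subgroup G) := hP.to_le (sup_le (zpowers_le.2 hgP) hAP)
  refine hgA (s.le_A_of_centralizes hsup le_sup_right ?_ (mem_sup_left (mem_zpowers g)))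
  intro u hu b hb
  have hle : zpowers g ⊔ s.A ≤ centralizer ({b} : Set G) :=
    sup_le (zpowers_le.2 (mem_centralizer_singleton_iff.2 (hc b hb)))
      fun x hx => mem_centralizer_singleton_iff.2 (s.A_comm hx hb)
  exact mem_centralizer_singleton_iff.1 (hle hu)

/-- If the automiser of `B` preserves `Z`, then `A` is strongly closed. -/
theorem closed_of_pres_mirror (hp : s.mirror.Pres) : Cfsg.IsStronglyClosed s.A (s.S : Subgroup G) := by
  refine ⟨s.A_le, fun x hx g hg => ?_⟩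
  by_contra hA
  set b := g * x * g⁻¹ with hb
  have hb2 : b * b = 1 := by
    rw [hb, show g * x * g⁻¹ * (g * x * g⁻¹) = g * (x * x) * g⁻¹ by group, s.A_sq hx]; group
  have hbB := (s.mem_A_or_B hg hb2).resolve_left hA
  haveI : Fact (Nat.Prime 2) := ⟨Nat.prime_two⟩
  set C := centralizer ({b} : Set G)
  have hBC : s.B ≤ C := fun y hy => mem_centralizer_singleton_iff.2
    (s.mirror.A_comm (s.mirror_A.symm ▸ hy) (s.mirror_A.symm ▸ hbB))
  obtain ⟨P, hP⟩ := ((s.S.isPGroup'.to_le s.B_le).comap_of_injective C.subtype C.subtype_injective).exists_le_sylow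
  have hPB : (P : Subgroup ↥C).map C.subtype ≤ s.B := by
    rw [← s.mirror_A]
    refine s.mirror.le_A_of_pres hp (s.mirror_A.symm ▸ hbB) (s.mirror_B.symm ▸ hA) (P.isPGroup'.map _) ?_ ?_
    · rw [s.mirror_A]
      exact fun y hy => ⟨⟨y, hBC hy⟩, hP (mem_subgroupOf.2 hy), rfl⟩
    · rintro _ ⟨y, -, rfl⟩
      exact mem_centralizer_singleton_iff.1 y.2
  set U := s.A.map (MulAut.conj g).toMonoidHom
  have hUC : U ≤ C := by
    rintro _ ⟨a, ha, rfl⟩
    refine mem_centralizer_singleton_iff.2 ?_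
    show g * a * g⁻¹ * (g * x * g⁻¹) = g * x * g⁻¹ * (g * a * g⁻¹)
    rw [show g * a * g⁻¹ * (g * x * g⁻¹) = g * (a * x) * g⁻¹ by group,
      show g * x * g⁻¹ * (g * a * g⁻¹) = g * (x * a) * g⁻¹ by group, s.A_comm ha hx]
  obtain ⟨Q, hQ⟩ := ((s.A_pGroup.map (MulAut.conj g).toMonoidHom).comap_of_injective C.subtype
    C.subtype_injective).exists_le_sylow
  obtain ⟨k, hk⟩ := MulAction.exists_smul_eq ↥C Q P
  have hle : s.A.map (MulAut.conj ((k : G) * g)).toMonoidHom ≤ s.B := by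
    rintro _ ⟨a, ha, rfl⟩
    refine hPB ⟨k * ⟨g * a * g⁻¹, hUC ⟨a, ha, rfl⟩⟩ * k⁻¹, ?_, by simp [MulAut.conj_apply, mul_assoc]⟩
    rw [← hk, Sylow.coe_subgroup_smul]
    exact ⟨_, hQ (mem_subgroupOf.2 ⟨a, ha, rfl⟩), rfl⟩
  exact s.not_conj _ (eq_of_le_of_card_ge hle (by
    rw [card_map_of_injective (MulAut.conj _).injective, ← s.mirror_A, s.mirror.card_A, s.card_A]))

theorem localHyp (hcl : Cfsg.IsStronglyClosed s.A (s.S : Subgroup G)) (hO : Cfsg.oddCore G = ⊥) :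
    Fus.Gold.LocalHyp G s.A where
  core := hO
  elem := s.A_elem
  closed T hT hAT x hx g hg := by
    obtain ⟨h, hh⟩ := s.exists_conj_S hT
    have hA := (s.conj_A_cases fun a ha => hh a (hAT ha)).resolve_right (s.not_conj h)
    have h1 : h * g * x * (h * g)⁻¹ ∈ s.A := hcl.2 x hx (h * g) (by
      rw [show h * g * x * (h * g)⁻¹ = h * (g * x * g⁻¹) * h⁻¹ by group]; exact hh _ hg)
    rw [← hA] at h1
    obtain ⟨a, ha, e⟩ := h1
    have e' : g * x * g⁻¹ = a := by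
      refine mul_left_cancel (a := h) (mul_right_cancel (b := h⁻¹) ?_)
      rw [show h * (g * x * g⁻¹) * h⁻¹ = h * g * x * (h * g)⁻¹ by group]
      exact e.symm
    rw [e']; exact ha
  comp K hK := by
    haveI := hK.2.2
    exact Fus.Gold.conclusion_all _ hK.2.2 (Fus.Gold.not_comm_quotient hK)

/-- A component moved by `A` is normalised by `S`. -/
theorem S_le_normalizer_comp (h : Fus.Gold.LocalHyp G s.A) {K : Subgroup G} (hK : Cfsg.IsComponent K)
    (hm : ¬ s.A ≤ centralizer (K : Set G)) : (s.S : Subgroup G) ≤ normalizer (K : Set G) := by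
  classical
  have hAN := Fus.Gold.local_normalizes h hK
  by_contra hne
  obtain ⟨t, ht, htK⟩ := SetLike.not_le_iff_exists.1 hne
  have htk : ∀ t ∈ (s.S : Subgroup G), t ∉ normalizer (K : Set G) → ∀ w ∈ s.A ⊓ K,
      t * w * t⁻¹ ∈ centralizer (K : Set G) := by
    intro t ht htK w hw
    have hne' : K.map (MulAut.conj t).toMonoidHom ≠ K := fun e => htK (mem_normalizer_fintype fun x hx => by
      have : (MulAut.conj t).toMonoidHom x ∈ K.map (MulAut.conj t).toMonoidHom := ⟨x, hx, rfl⟩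
      rw [e] at this
      exact this)
    exact (Grp.IsComponent.commute (IsComponent.conj hK t) hK hne') ⟨w, hw.2, rfl⟩
  set C := centralizer (K : Set G)
  have hZK : ∀ z, s.e 0 0 z ∈ K → s.e 0 0 z ∈ C := fun z hz => by
    have := htk t ht htK _ ⟨s.e_mem_A.2 rfl, hz⟩
    obtain ⟨a, b, c, rfl⟩ := (s.mem_iff t).1 ht
    rwa [s.e_conj, mul_zero, add_zero] at this
  obtain ⟨x, z, hxK, hx⟩ : ∃ x z, s.e x 0 z ∈ K ∧ x ≠ 0 := by
    by_contra hall
    push Not at hall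
    refine Fus.Gold.not_le_of_moved h hK hm ?_
    rintro _ ⟨⟨x, z, rfl⟩, hk⟩
    obtain rfl := hall x z hk
    exact hZK z hk
  obtain ⟨x₂, z₂, hx₂K, hx₂, hx₂x⟩ : ∃ x₂ z₂, s.e x₂ 0 z₂ ∈ K ∧ x₂ ≠ 0 ∧ x₂ ≠ x := by
    by_contra hall
    push Not at hall
    let f : Bool → ↥(Fus.Gold.kbar s.A K) := fun b => cond b 1 ⟨_, Fus.Gold.mem_kbar (s.e_mem_A.2 rfl) hxK⟩
    have hf : Function.Surjective f := by
      rintro ⟨_, ⟨k, hkK⟩, hk, rfl⟩
      obtain ⟨⟨x', z', rfl⟩, hk'⟩ := mem_subgroupOf.1 hk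
      rcases eq_or_ne x' 0 with rfl | hx'
      · exact ⟨true, Subtype.ext ((Fus.Gold.mk_eq_one hK).2 (hZK z' hk')).symm⟩
      · refine ⟨false, Subtype.ext (QuotientGroup.eq.2 ?_)⟩
        obtain rfl := hall x' z' hk' hx'
        have hd : s.e 0 0 (z + z') ∈ C := hZK _ (by
          have := K.mul_mem hxK hk'
          rwa [s.e_mul, addSelf, mul_zero, add_zero, add_zero] at this)
        refine mem_center_iff.2 fun k => Subtype.ext ?_
        have e : (s.e x' 0 z)⁻¹ * s.e x' 0 z' = s.e 0 0 (z + z') := by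
          simp [s.e_inv, s.e_mul, addSelf]
        show (k : G) * ((s.e x' 0 z)⁻¹ * s.e x' 0 z') = (s.e x' 0 z)⁻¹ * s.e x' 0 z' * k
        rw [e]; exact mem_centralizer_iff.1 hd k k.2
    have h2 := Nat.card_le_card_of_surjective f hf
    rw [Nat.card_eq_fintype_card (α := Bool), Fintype.card_bool] at h2
    have := Fus.Gold.four_le_kbar h hK hm
    omega
  have h4 := Fus.Gold.local_four h hK hm
  rw [s.card_A] at h4
  set W := s.A ⊓ C with hW
  have hxW : ∀ x' z', x' ≠ 0 → s.e x' 0 z' ∈ K → ∃ z'', s.e x' 0 z'' ∈ W := fun x' z' _ hk => by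
    obtain ⟨a, b, c, rfl⟩ := (s.mem_iff t).1 ht
    exact ⟨z' + b * x', s.e_mem_A.2 rfl, s.e_conj a b c x' z' ▸ htk _ ht htK _ ⟨s.e_mem_A.2 rfl, hk⟩⟩
  obtain ⟨z₁, hw⟩ := hxW x z hx hxK
  obtain ⟨z₃, hw₂⟩ := hxW x₂ z₂ hx₂ hx₂K
  -- `W` meets `Z` trivially
  have hcz : ∀ z₀, s.e 0 0 z₀ ∈ W → z₀ = 0 := by
    intro z₀ hz₀
    let π : ↥W → F := fun w => (s.vecEquiv.symm ⟨w, w.2.1⟩).1
    have hπ : ∀ x' z' (hm' : s.e x' 0 z' ∈ W), π ⟨_, hm'⟩ = x' := fun x' z' hm' => by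
      show (s.vecEquiv.symm ⟨s.vec (x', z'), _⟩).1 = x'
      exact congrArg Prod.fst (s.vecEquiv.symm_apply_apply (x', z'))
    have hsur : Function.Surjective π := fun c => by
      rcases span_pair s.hF hx hx₂ hx₂x.symm c with rfl | rfl | rfl | rfl
      · exact ⟨⟨_, hz₀⟩, hπ _ _ _⟩
      · exact ⟨⟨_, hw⟩, hπ _ _ _⟩
      · exact ⟨⟨_, hw₂⟩, hπ _ _ _⟩
      · refine ⟨⟨s.e (x + x₂) 0 (z₁ + z₃), ?_⟩, hπ _ _ _⟩
        have := W.mul_mem hw hw₂
        rwa [s.e_mul, mul_zero, add_zero, add_zero] at this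
    have hbij := hsur.bijective_of_nat_card_le (by rw [Nat.card_eq_fintype_card (α := F), s.hF]; omega)
    have h0 : s.e 0 0 0 ∈ W := s.e_one ▸ W.one_mem
    have := hbij.1 ((hπ 0 z₀ hz₀).trans (hπ 0 0 h0).symm)
    exact (s.e_inj _ _ _ _ _ _ (congrArg Subtype.val this)).2.2
  obtain ⟨w, hw0, hw1⟩ := exists_omega s.hF (F := F)
  have key : ∀ y, y ≠ 0 → s.e x 0 (z + y * x) ∈ W := by
    intro y hy
    by_cases hn : s.e 0 y 0 ∈ normalizer (K : Set G)
    · exfalso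
      have h1 : s.e x 0 (z₁ + y * x) ∈ W := by
        have := Fus.Gold.conj_mem_centralizer hn hw.2
        rw [s.e_conj] at this
        exact ⟨s.e_mem_A.2 rfl, this⟩
      have h2 := W.mul_mem hw h1
      rw [s.e_mul, addSelf, mul_zero, add_zero, add_zero, ← add_assoc, addSelf, zero_add] at h2
      exact mul_ne_zero hy hx (hcz _ h2)
    · have := htk _ (s.e_mem 0 y 0) hn _ ⟨s.e_mem_A.2 rfl, hxK⟩
      rw [s.e_conj] at this
      exact ⟨s.e_mem_A.2 rfl, this⟩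
  have h2 := W.mul_mem (key 1 one_ne_zero) (key w hw0)
  rw [s.e_mul, addSelf, mul_zero, add_zero, add_zero] at h2
  have h0 := hcz _ h2
  rw [show z + 1 * x + (z + w * x) = (z + z) + (1 + w) * x by ring, addSelf, zero_add] at h0
  rcases mul_eq_zero.1 h0 with e | e
  · exact hw1 ((CharTwo.add_eq_zero.1 e).symm)
  · exact hx e

/-- `A` is normal. -/
theorem normal_of_closed (hcl : Cfsg.IsStronglyClosed s.A (s.S : Subgroup G)) (hO : Cfsg.oddCore G = ⊥) :
    s.A.Normal := by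
  classical
  haveI : Fact (Nat.Prime 2) := ⟨Nat.prime_two⟩
  have h := s.localHyp hcl hO
  by_cases hno : Fus.Gold.movedComps s.A = ∅
  · have h1 := Fus.Gold.local_closure h
    rw [hno, sSup_empty, sup_bot_eq] at h1
    exact ⟨fun a ha g => by
      have := h1 (commutator_mem_commutator (mem_top g) ha)
      rw [commutatorElement_def] at this
      simpa using mul_mem this ha⟩
  exfalso
  obtain ⟨K, hK, hKm⟩ := Set.nonempty_iff_ne_empty.2 hno
  have hm : ¬ s.A ≤ centralizer (K : Set G) := fun e => hKm (Subgroup.le_centralizer_iff.1 e)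
  set C := centralizer (K : Set G)
  have hSK := s.S_le_normalizer_comp h hK hm
  have h4 : 4 * Nat.card ↥(s.A ⊓ C) ≤ 16 := s.card_A ▸ Fus.Gold.local_four h hK hm
  have hsup := Fus.Gold.local_sup h hK
  obtain ⟨w, hw0, hw1⟩ := exists_omega s.hF (F := F)
  -- an invariant subgroup of `A` outside `Z` contains `Z`
  have hinv : ∀ W : Subgroup G, W ≤ s.A → (∀ y, ∀ u ∈ W, s.e 0 y 0 * u * (s.e 0 y 0)⁻¹ ∈ W) →
      ∀ x z, x ≠ 0 → s.e x 0 z ∈ W → ∀ z', s.e 0 0 z' ∈ W := by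
    intro W _ hW x z hx hm' z'
    have := W.mul_mem hm' (hW (z' / x) _ hm')
    rwa [s.e_conj, s.e_mul, addSelf, mul_zero, add_zero, add_zero, ← add_assoc, addSelf, zero_add,
      div_mul_cancel₀ _ hx] at this
  have hKinv : ∀ y, ∀ u ∈ s.A ⊓ K, s.e 0 y 0 * u * (s.e 0 y 0)⁻¹ ∈ s.A ⊓ K := fun y u hu =>
    ⟨mem_conj_normalizer (s.S_le_normalizer (s.e_mem _ _ _)) hu.1, mem_conj_normalizer (hSK (s.e_mem _ _ _)) hu.2⟩
  have hCinv : ∀ y, ∀ u ∈ s.A ⊓ C, s.e 0 y 0 * u * (s.e 0 y 0)⁻¹ ∈ s.A ⊓ C := fun y u hu =>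
    ⟨mem_conj_normalizer (s.S_le_normalizer (s.e_mem _ _ _)) hu.1,
      Fus.Gold.conj_mem_centralizer (hSK (s.e_mem _ _ _)) hu.2⟩
  have hCZ : ∀ x z, s.e x 0 z ∈ C → x = 0 := by
    intro x z hxC
    by_contra hx
    have hz := hinv _ inf_le_left hCinv x z hx ⟨s.e_mem_A.2 rfl, hxC⟩
    have hcard : 5 ≤ Nat.card ↥(s.A ⊓ C) := by
      refine le_of_eq_of_le ?_ (Nat.card_le_card_of_injective (α := Option F)
        (fun o => match o with | none => ⟨_, s.e_mem_A.2 rfl, hxC⟩ | some z' => ⟨_, hz z'⟩) ?_)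
      · rw [Nat.card_eq_fintype_card, Fintype.card_option, s.hF]
      · rintro (_ | a) (_ | b) e
        · rfl
        · exact absurd (s.e_inj _ _ _ _ _ _ (congrArg Subtype.val e)).1 hx
        · exact absurd (s.e_inj _ _ _ _ _ _ (congrArg Subtype.val e)).1.symm hx
        · exact congrArg some (s.e_inj _ _ _ _ _ _ (congrArg Subtype.val e)).2.2
    omega
  have hCc : ∀ u ∈ s.A ⊓ C, ∃ z, s.e 0 0 z = u := by
    rintro _ ⟨⟨x, z, rfl⟩, hu⟩
    exact ⟨z, by rw [hCZ x z hu]⟩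
  -- `A ≤ K`
  obtain ⟨x, z, hxK, hx⟩ : ∃ x z, s.e x 0 z ∈ K ∧ x ≠ 0 := by
    by_contra hall
    push Not at hall
    have hle : s.A ≤ (s.A ⊓ C) ⊔ (s.A ⊓ K) := hsup.ge
    have hcoe := hle (s.e_mem_A.2 rfl : s.e 1 0 0 ∈ s.A)
    rw [← SetLike.mem_coe, coe_mul_of_left_le_normalizer_right _ _
      (h.le_normalizer_of_le inf_le_left inf_le_left)] at hcoe
    obtain ⟨u, hu, v, ⟨⟨x, z, rfl⟩, hv⟩, e⟩ := hcoe
    obtain ⟨c, rfl⟩ := hCc u hu
    change s.e 0 0 c * s.e x 0 z = s.e 1 0 0 at e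
    rw [hall x z hv, s.e_mul, addSelf] at e
    exact one_ne_zero (s.e_inj _ _ _ _ _ _ e).1.symm
  have hZK := hinv _ inf_le_left hKinv x z hx ⟨s.e_mem_A.2 rfl, hxK⟩
  have hAK : s.A ≤ K := by
    refine hsup.ge.trans (sup_le ?_ inf_le_right)
    intro u hu
    obtain ⟨c, rfl⟩ := hCc u hu
    exact (hZK c).2
  -- `S ⊓ K = A`
  obtain ⟨P, hP, -, -, -, -, hinvK, -, -⟩ := Fus.Gold.exists_data h hK s.A_le hm
  have hSKA : ∀ r ∈ (s.S : Subgroup G), r ∈ K → r ∈ s.A := by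
    intro r hr hrK
    obtain ⟨a, b, c, rfl⟩ := (s.mem_iff r).1 hr
    have hb : s.e 0 b (c + a * b) ∈ K := by
      have := K.mul_mem (hAK (s.e_mem_A.2 rfl : s.e a 0 0 ∈ s.A)) hrK
      rwa [s.e_mul, addSelf, zero_add, zero_add] at this
    set bK : ↥K := ⟨_, hb⟩
    have hb2 : (bK : ↥K ⧸ center ↥K) * (bK : ↥K ⧸ center ↥K) = 1 := by
      rw [← QuotientGroup.mk_mul]
      refine (Fus.Gold.mk_eq_one hK).2 ?_
      show s.e 0 b (c + a * b) * s.e 0 b (c + a * b) ∈ C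
      rw [s.e_sq, zero_mul, s.e_one]; exact one_mem _
    obtain ⟨⟨a', ha'K⟩, ha', e⟩ := hinvK _ ((hP bK).2 (s.e_mem _ _ _)) hb2
    have hc : a'⁻¹ * s.e 0 b (c + a * b) ∈ C := by
      have := QuotientGroup.eq.1 e
      exact mem_centralizer_iff.2 fun k hk => congrArg Subtype.val (mem_center_iff.1 this ⟨k, hk⟩)
    have hcomm : s.e 0 b (c + a * b) * s.e 1 0 0 = s.e 1 0 0 * s.e 0 b (c + a * b) := by
      have h1 : Commute (a'⁻¹ * s.e 0 b (c + a * b)) (s.e 1 0 0) :=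
        (mem_centralizer_iff.1 hc _ (hAK (s.e_mem_A.2 rfl))).symm
      have h2 : Commute a' (s.e 1 0 0) := s.A_comm (mem_subgroupOf.1 ha').1 (s.e_mem_A.2 rfl)
      have := h2.mul_left h1
      rwa [mul_inv_cancel_left] at this
    have := s.mem_A_of_comm (s.e_mem _ _ _) (s.e_mem_A.2 rfl : s.e 1 0 0 ∈ s.A)
      (fun hb' => one_ne_zero (s.e_mem_B.1 hb')) hcomm
    rw [s.e_mem_A] at this ⊢
    exact this
  -- the centre of `K` has odd order
  have hsylK : (s.S : Subgroup G).subgroupOf K = s.A.subgroupOf K := by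
    ext ⟨r, hrK⟩
    simp only [mem_subgroupOf]
    exact ⟨fun hr => hSKA r hr hrK, fun hr => s.A_le hr⟩
  have hodd : ¬ 2 ∣ (s.A.subgroupOf K).index := by
    rw [← hsylK]
    exact Grp.not_dvd_relIndex_sylow s.S hK.1
  set PK : Sylow 2 ↥K := (s.A_pGroup.comap_of_injective K.subtype K.subtype_injective).toSylow hodd
  have hAC : ∀ u ∈ s.A, u ∈ C → u = 1 := fun u hu huC => congrArg Subtype.val
    (Fus.Gold.eq_one_of_abelian_sylow (z := (⟨u, hAK hu⟩ : ↥K)) hK.2.1.1 PK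
      (fun p hp q hq => Subtype.ext (s.A_comm (mem_subgroupOf.1 hp) (mem_subgroupOf.1 hq)))
      (mem_subgroupOf.2 hu)
      (mem_center_iff.2 fun k => Subtype.ext (mem_centralizer_iff.1 huC k k.2)))
  -- a transitive group of odd order in the automiser
  obtain ⟨u, hu, huc, hlin⟩ := s.planeGrp.exists_linear
  set N := normalizer (s.A : Set G)
  set Y := ((K ⊓ N).subgroupOf N).map s.th
  set Y' := Y.map (MulAut.conj u).toMonoidHom
  have hY : Y ≤ s.X := by rintro _ ⟨g, -, rfl⟩; exact ⟨g, rfl⟩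
  have hX' := s.planeGrp.conj hu huc
  have hlin' : ∀ g ∈ s.X.map (MulAut.conj u).toMonoidHom, Lin g := by
    rintro _ ⟨g, hg, rfl⟩; exact hlin g hg
  have hconj : ∀ y, ∀ n ∈ Y', up y * n * up y ∈ Y' := by
    rintro y _ ⟨_, ⟨⟨g, hgN⟩, hg, rfl⟩, rfl⟩
    have hg' := (mem_subgroupOf.1 hg).1
    have he : s.e 0 y 0 * g * (s.e 0 y 0)⁻¹ ∈ N :=
      mul_mem (mul_mem (s.S_le_normalizer (s.e_mem _ _ _)) hgN) (inv_mem (s.S_le_normalizer (s.e_mem _ _ _)))
    refine ⟨s.th ⟨_, he⟩, ⟨⟨_, he⟩, mem_subgroupOf.2 ⟨mem_conj_normalizer (hSK (s.e_mem _ _ _)) hg', he⟩, rfl⟩, ?_⟩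
    have e : (⟨_, he⟩ : ↥N) = ⟨_, s.S_le_normalizer (s.e_mem 0 y 0)⟩ * ⟨g, hgN⟩ *
        (⟨_, s.S_le_normalizer (s.e_mem 0 y 0)⟩ : ↥N)⁻¹ := Subtype.ext rfl
    rw [e, map_mul, map_mul, map_inv, MulEquiv.coe_toMonoidHom, map_mul, map_mul, map_inv]
    simp only [MulAut.conj_apply, s.th_e]
    rw [huc y, mul_inv_cancel_right, up_inv]
  have hodd' : Odd (Nat.card Y') := by
    rw [card_map_of_injective (MulAut.conj u).injective]
    have hker : (s.A.subgroupOf N).subgroupOf ((K ⊓ N).subgroupOf N) ≤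
        (s.th.comp ((K ⊓ N).subgroupOf N).subtype).ker := by
      intro g hg
      have hgA := mem_subgroupOf.1 (mem_subgroupOf.1 hg)
      refine Equiv.ext fun v => s.vec_injective ?_
      show s.vec (s.th _ v) = _
      rw [s.vec_th]
      show ((g : ↥N) : G) * s.vec v * ((g : ↥N) : G)⁻¹ = s.vec v
      rw [s.A_comm hgA (s.vec_mem v), mul_inv_cancel_right]
    have h1 : Nat.card Y ∣ (s.A.subgroupOf N).relIndex ((K ⊓ N).subgroupOf N) := by
      have := index_dvd_of_le hker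
      rw [index_ker, MonoidHom.range_comp, range_subtype] at this
      exact this
    rw [relIndex_subgroupOf (inf_le_right : K ⊓ N ≤ N)] at h1
    have h2 : s.A.relIndex (K ⊓ N) ∣ s.A.relIndex K :=
      Dvd.intro _ (relIndex_mul_relIndex s.A (K ⊓ N) K (le_inf hAK le_normalizer) inf_le_left)
    exact Nat.not_even_iff_odd.1 fun he => hodd ((even_iff_two_dvd.1 he).trans (h1.trans h2))
  -- the element
  set v₀ := u⁻¹ (0, 1)
  set v₁ := u⁻¹ (1, 0)
  have hne : ∀ v : F × F, v ≠ 0 → s.vec (u⁻¹ v) ∉ C := fun v hv hc => hv (by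
    have h1 := s.vec_eq_one.1 (hAC _ (s.vec_mem _) hc)
    have h2 := congrArg u h1
    rw [Equiv.Perm.coe_inv, Equiv.apply_symm_apply, hu.map_zero] at h2
    exact h2)
  obtain ⟨n, hnK, hnN, hn⟩ := Fus.Gold.exists_transitive h hK s.A_le hm
    (x := s.vec v₀) (y := s.vec v₁) ⟨s.vec_mem _, hAK (s.vec_mem _)⟩ (hne _ (by simp))
    ⟨s.vec_mem _, hAK (s.vec_mem _)⟩ (hne _ (by simp))
  have hSKeq : (s.S : Subgroup G) ⊓ K = s.A :=
    le_antisymm (fun r hr => hSKA r hr.1 hr.2) (le_inf s.A_le hAK)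
  rw [hSKeq] at hnN
  have hn1 : n * s.vec v₀ * n⁻¹ = s.vec v₁ := by
    have := hAC _ (s.A.mul_mem (inv_mem (s.vec_mem v₁)) (mem_conj_normalizer hnN (s.vec_mem v₀))) hn
    exact (inv_mul_eq_one.1 this).symm
  refine hX'.no_odd_swap hlin' Y' (map_mono hY) hconj hodd'
    (n := u * s.th ⟨n, hnN⟩ * u⁻¹) ⟨_, ⟨⟨n, hnN⟩, mem_subgroupOf.2 ⟨hnK, hnN⟩, rfl⟩, rfl⟩ ?_
  show u (s.th ⟨n, hnN⟩ (u⁻¹ (0, 1))) = (1, 0)
  have : s.th ⟨n, hnN⟩ v₀ = v₁ := s.vec_injective (by rw [s.vec_th]; exact hn1)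
  rw [this]; simp [v₁]

end Shape

end Cfsg.Agent.Fus.L34T
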