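import Cfsg.Agent.Lib.Fus.L34Type.Shape
import Cfsg.Agent.Lib.Fus.L34Type.Closed
import Cfsg.Agent.S0051
import Cfsg.Agent.Lib.Grp.Cores

/-!
# `A` normal: the group is affine
-/

set_option autoImplicit false
set_option linter.unusedSectionVars false
set_option linter.style.haveILetI false

namespace Cfsg.Agent.Fus.L34T

open Subgroup Cfsg.Agent.Grp

universe u v

variable {G : Type u} [Group G] [Finite G] {F : Type v} [Field F] [Fintype F] [CharP F 2] (s : Shape G F)

namespace Shape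

/-- A normal `A` is its own centraliser if `O(G) = 1`. -/
theorem centralizer_eq (hA : s.A.Normal) (hO : Cfsg.oddCore G = ⊥) {g : G} (hg : ∀ a ∈ s.A, g * a = a * g) :
    g ∈ s.A := by
  haveI : Fact (Nat.Prime 2) := ⟨Nat.prime_two⟩
  haveI := hA
  set C := centralizer (s.A : Set G)
  have hgC : g ∈ C := mem_centralizer_iff.2 fun a ha => (hg a ha).symm
  haveI : C.Normal := inferInstance
  have hAC : s.A ≤ C := fun a ha => mem_centralizer_iff.2 fun b hb => s.A_comm hb ha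
  have hp : IsPGroup 2 (s.A.subgroupOf C) := s.A_pGroup.comap_of_injective C.subtype C.subtype_injective
  obtain ⟨P, hP⟩ := hp.exists_le_sylow
  have hPA : (P : Subgroup ↥C) = s.A.subgroupOf C := by
    refine le_antisymm (fun x hx => mem_subgroupOf.2 ?_) hP
    refine s.le_A_of_centralizes (U := (P : Subgroup ↥C).map C.subtype) (P.isPGroup'.map _)
      (fun a ha => ⟨⟨a, hAC ha⟩, hP (mem_subgroupOf.2 ha), rfl⟩) ?_ ⟨x, hx, rfl⟩
    rintro _ ⟨y, -, rfl⟩ a ha
    exact (mem_centralizer_iff.1 y.2 a ha).symm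
  set N := s.A.subgroupOf C
  haveI : N.Normal := ⟨fun x hx y => mem_subgroupOf.2 (hA.conj_mem _ (mem_subgroupOf.1 hx) _)⟩
  have hodd : Odd N.index := by
    rw [← hPA, ← Nat.not_even_iff_odd, even_iff_two_dvd]
    exact P.not_dvd_index
  have hN16 : Nat.card N = 2 ^ 4 := by
    rw [Nat.card_congr (subgroupOfEquivOfLe hAC).toEquiv, s.card_A]; norm_num
  obtain ⟨H, hH⟩ := exists_right_complement'_of_coprime (N := N)
    (hN16 ▸ Nat.Coprime.pow_left 4 (Nat.coprime_two_left.2 hodd))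
  have hHodd : Odd (Nat.card H) := by rw [← hH.symm.index_eq_card]; exact hodd
  set W := H.map C.subtype
  have hWn : W.Normal := by
    refine ⟨fun w hw k => ?_⟩
    obtain ⟨⟨x, hxC⟩, hx, rfl⟩ := hw
    obtain ⟨⟨⟨⟨a, haC⟩, ha⟩, ⟨b, hbC⟩, hb⟩, e⟩ := hH.2 ⟨k * x * k⁻¹, Normal.conj_mem inferInstance x hxC k⟩
    have e' : a * b = k * x * k⁻¹ := congrArg Subtype.val e
    have haA : a ∈ s.A := mem_subgroupOf.1 ha
    have hpow : ∀ (y : G) (hy : y ∈ C), (⟨y, hy⟩ : ↥C) ∈ H → y ^ Nat.card H = 1 := fun y hy hyH => by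
      have := congrArg (fun t : ↥H => ((t : ↥C) : G)) (pow_card_eq_one' (x := (⟨⟨y, hy⟩, hyH⟩ : ↥H)))
      exact this
    have h1 : (a * b) ^ Nat.card H = 1 := by rw [e', conj_pow, hpow x hxC hx]; group
    rw [(show Commute a b from mem_centralizer_iff.1 hbC a haA).mul_pow, hpow b hbC hb, mul_one] at h1
    obtain ⟨j, hj⟩ := hHodd
    rw [hj, pow_succ, pow_mul, pow_two, s.A_sq haA, one_pow, one_mul] at h1
    rw [h1, one_mul] at e'
    exact ⟨⟨b, hbC⟩, hb, e'⟩
  have hW : W = ⊥ := le_bot_iff.1 (hO ▸ Grp.le_pPrimeCore hWn (by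
    rw [card_map_of_injective C.subtype_injective]
    exact Nat.coprime_two_right.2 hHodd))
  obtain ⟨⟨⟨a, ha⟩, b, hb⟩, e⟩ := hH.2 ⟨g, hgC⟩
  have hb1 : (b : G) = 1 := mem_bot.1 (hW ▸ ⟨b, hb, rfl⟩ : (b : G) ∈ (⊥ : Subgroup G))
  have e' : ((a : ↥C) : G) * (b : G) = g := congrArg Subtype.val e
  rw [hb1, mul_one] at e'
  exact e' ▸ mem_subgroupOf.1 ha

/-- The complement of `A` in `S`. -/
def V0 : Subgroup G where
  carrier := {g | ∃ y, s.e 0 y 0 = g}
  one_mem' := ⟨0, s.e_one⟩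
  mul_mem' := by
    rintro _ _ ⟨y, rfl⟩ ⟨y', rfl⟩
    exact ⟨y + y', by rw [s.e_mul, zero_mul, add_zero, add_zero]⟩
  inv_mem' := by
    rintro _ ⟨y, rfl⟩
    exact ⟨y, by rw [s.e_inv, zero_mul, add_zero]⟩

theorem exists_complement (hA : s.A.Normal) : ∃ H : Subgroup G, Subgroup.IsComplement' s.A H := by
  haveI := hA
  haveI : Fact (Nat.Prime 2) := ⟨Nat.prime_two⟩
  haveI : IsMulCommutative ↥s.A := ⟨⟨fun a b => Subtype.ext (s.A_comm a.2 b.2)⟩⟩
  refine S0051.result s.A (s.S : Subgroup G) s.A_le ?_ s.V0 ?_ ?_ ?_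
  · rw [s.card_A, show 16 = 2 ^ 4 from rfl]
    exact Nat.Coprime.pow_left 4 ((Nat.prime_two.coprime_iff_not_dvd).2 s.S.not_dvd_index)
  · rintro _ ⟨y, rfl⟩; exact s.e_mem _ _ _
  · rw [eq_bot_iff]
    rintro _ ⟨⟨y, rfl⟩, hy⟩
    rw [s.e_mem_A.1 hy]; exact mem_bot.2 s.e_one
  · refine le_antisymm (sup_le s.A_le (by rintro _ ⟨y, rfl⟩; exact s.e_mem _ _ _)) fun g hg => ?_
    obtain ⟨x, y, z, rfl⟩ := (s.mem_iff g).1 hg
    have : s.e x y z = s.e x 0 (z + x * y) * s.e 0 y 0 := by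
      rw [s.e_mul, add_zero, zero_add, add_zero, add_assoc, addSelf, add_zero]
    rw [this]
    exact mul_mem (mem_sup_left (s.e_mem_A.2 rfl)) (mem_sup_right ⟨y, rfl⟩)

/-- An affine group. -/
theorem embeds_of_normal (hA : s.A.Normal) (hO : Cfsg.oddCore G = ⊥) :
    ∃ f : G →* GL (Fin 3) F ⧸ Subgroup.center (GL (Fin 3) F), Function.Injective f := by
  classical
  haveI := hA
  have hN : ∀ g : G, g ∈ normalizer (s.A : Set G) := fun g => normalizer_eq_top (H := s.A) ▸ mem_top g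
  let θ : G → Equiv.Perm (F × F) := fun g => s.th ⟨g, hN g⟩
  have hθmul : ∀ g k, θ (g * k) = θ g * θ k := fun g k => by
    show s.th _ = s.th _ * s.th _
    rw [← map_mul]; rfl
  have hθA : ∀ a ∈ s.A, θ a = 1 := fun a ha => Equiv.ext fun v => s.vec_injective (by
    rw [s.vec_th]
    show a * s.vec v * a⁻¹ = s.vec v
    rw [s.A_comm ha (s.vec_mem v), mul_inv_cancel_right])
  obtain ⟨u, hu, -, hlin⟩ := s.planeGrp.exists_linear
  obtain ⟨H, hH⟩ := s.exists_complement hA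
  choose p hp using fun g => hH.2 g
  have hsplit : ∀ g, ((p g).1 : G) * (p g).2 = g := hp
  let d : G → F × F := fun g => s.vecEquiv.symm (p g).1
  have hd : ∀ g, s.vec (d g) = ((p g).1 : G) := fun g => congrArg Subtype.val (s.vecEquiv.apply_symm_apply _)
  have huniq : ∀ g (a : G), a ∈ s.A → (∃ h ∈ H, a * h = g) → s.vec (d g) = a := by
    rintro g a ha ⟨h, hh, rfl⟩
    rw [hd, hH.1 (a₁ := p (a * h)) (a₂ := (⟨a, ha⟩, ⟨h, hh⟩)) (hsplit _)]
  have hθp : ∀ g, θ g = θ (p g).2 := fun g => by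
    conv_lhs => rw [← hsplit g]
    rw [hθmul, hθA _ (p g).1.2, one_mul]
  have hdmul : ∀ g k, d (g * k) = d g + θ g (d k) := fun g k => by
    refine s.vec_injective ?_
    rw [s.vec_add, hθp g, s.vec_th, hd g, hd k]
    refine huniq _ _ (s.A.mul_mem (p g).1.2 (hA.conj_mem _ (p k).1.2 _)) ⟨_, H.mul_mem (p g).2.2 (p k).2.2, ?_⟩
    conv_rhs => rw [← hsplit g, ← hsplit k]
    group
  let L : G → Equiv.Perm (F × F) := fun g => u * θ g * u⁻¹
  have hLl : ∀ g, Lin (L g) := fun g => hlin _ (s.th_mem (hN g))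
  have hLa : ∀ g, Additive' (L g) := fun g => (hu.mul (s.th_additive _)).mul hu.inv
  have hLmul : ∀ g k, L (g * k) = L g * L k := fun g k => by
    simp only [L, hθmul]; group
  have hLd : ∀ g k, u (d (g * k)) = u (d g) + L g (u (d k)) := fun g k => by
    rw [hdmul, hu]; simp [L]
  have hLv : ∀ g (x z : F), L g (x, z) = x • L g (1, 0) + z • L g (0, 1) := fun g x z => by
    rw [← hLl g, ← hLl g, ← hLa g]; congr 1; ext <;> simp
  have hL1 : L 1 = 1 := by
    have := hLmul 1 1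
    rw [one_mul] at this
    simpa using this.symm
  have hd1 : d 1 = 0 := s.vec_injective (by
    rw [huniq 1 1 (one_mem _) ⟨1, one_mem _, one_mul 1⟩, s.vec_zero])
  let M : G →* Matrix (Fin 3) (Fin 3) F :=
    { toFun := fun g => !![(L g (1, 0)).1, (L g (0, 1)).1, (u (d g)).1;
        (L g (1, 0)).2, (L g (0, 1)).2, (u (d g)).2; 0, 0, 1]
      map_one' := by
        ext i j
        fin_cases i <;> fin_cases j <;> simp [hL1, hd1, hu.map_zero, show u (0 : F × F) = 0 from hu.map_zero]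
      map_mul' := fun g k => by
        have e0 : L (g * k) (1, 0) = (L k (1, 0)).1 • L g (1, 0) + (L k (1, 0)).2 • L g (0, 1) := by
          rw [hLmul, Equiv.Perm.coe_mul, Function.comp_apply, ← hLv]
        have e1 : L (g * k) (0, 1) = (L k (0, 1)).1 • L g (1, 0) + (L k (0, 1)).2 • L g (0, 1) := by
          rw [hLmul, Equiv.Perm.coe_mul, Function.comp_apply, ← hLv]
        have e2 : u (d (g * k)) = u (d g) + ((u (d k)).1 • L g (1, 0) + (u (d k)).2 • L g (0, 1)) := by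
          rw [hLd, ← hLv]
        ext i j
        fin_cases i <;> fin_cases j <;>
          simp [Matrix.mul_apply, Fin.sum_univ_three, e0, e1, e2] <;> ring }
  refine ⟨(QuotientGroup.mk' _).comp M.toHomUnits, (injective_iff_map_eq_one _).2 fun g hg => ?_⟩
  rw [MonoidHom.comp_apply, QuotientGroup.mk'_apply, QuotientGroup.eq_one_iff,
    Matrix.GeneralLinearGroup.mem_center_iff_val_mem_range_scalar] at hg
  obtain ⟨c, hc⟩ := hg
  rw [MonoidHom.coe_toHomUnits] at hc
  have e := fun i j => congrFun (congrFun hc i) j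
  have e22 := e 2 2; have e00 := e 0 0; have e01 := e 0 1; have e10 := e 1 0; have e11 := e 1 1
  have e02 := e 0 2; have e12 := e 1 2
  simp [M] at e22 e00 e01 e10 e11 e02 e12
  subst e22
  have hdg : d g = 0 := u.injective (by
    rw [show u (0 : F × F) = 0 from hu.map_zero]; exact Prod.ext e02.symm e12.symm)
  have hLg : L g = 1 := Equiv.ext fun v => by
    obtain ⟨x, z⟩ := v
    rw [hLv, show L g (1, 0) = (1, 0) from Prod.ext e00.symm e10.symm,
      show L g (0, 1) = (0, 1) from Prod.ext e01.symm e11.symm]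
    ext <;> simp
  have hθg : θ g = 1 := by simpa [L] using hLg
  have hgA : g ∈ s.A := s.centralizer_eq hA hO fun a ha => by
    obtain ⟨v, rfl⟩ := s.exists_vec ha
    have := s.vec_th ⟨g, hN g⟩ v
    rw [show s.th ⟨g, hN g⟩ = 1 from hθg] at this
    exact mul_inv_eq_iff_eq_mul.1 this.symm
  have := huniq g g hgA ⟨1, one_mem _, mul_one g⟩
  rw [hdg, s.vec_zero] at this
  exact this.symm

end Shape

end Cfsg.Agent.Fus.L34T
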