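import Cfsg.Agent.Lib.Fus.L34Type.Flag

/-!
# Involutions exchanging two points without a common line

An element of order three centralising an involution is not inverted, which bounds the two-point stabiliser.
-/

set_option autoImplicit false
set_option linter.unusedSectionVars false
set_option linter.style.haveILetI false

namespace Cfsg.Agent.Fus.L34T

open Subgroup Cfsg.Agent.Grp

universe u v

variable {G : Type u} [Group G] [Finite G] {F : Type v} [Field F] [Fintype F] [CharP F 2] {s : Shape G F}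

/-- An element of order three with `z` central centralises only `Z` in `S`. -/
theorem Shape.fix_of_order_three (s : Shape G F) (hz : ∀ g : G, g * s.z = s.z * g) (hO : Cfsg.oddCore G = ⊥)
    {σ : G} (hσ : orderOf σ = 3) {r : G} (hr : r ∈ (s.S : Subgroup G)) (hc : σ * r = r * σ) : r ∈ s.A := by
  haveI := s.normal_A_of_central hz hO
  have hN : ∀ g : G, g ∈ normalizer (s.A : Set G) := fun g => normalizer_eq_top (H := s.A) ▸ mem_top g
  obtain ⟨u, huc, hu⟩ := s.act_of_central hz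
  obtain ⟨-, p, q, -, hL⟩ := hu ⟨σ, hN σ⟩
  have hp : p ≠ 1 := fun hp => by
    have e : u * s.th ⟨σ, hN σ⟩ * u⁻¹ = up q := Equiv.ext fun v => by rw [hL, hp, one_mul, up_apply]
    have h3 : s.th ⟨σ, hN σ⟩ ^ 3 = 1 := by
      rw [← map_pow]
      convert map_one s.th
      exact Subtype.ext (show σ ^ 3 = 1 by rw [← hσ]; exact pow_orderOf_eq_one σ)
    have e3 : up q = (1 : Equiv.Perm (F × F)) := by
      have : (up q : Equiv.Perm (F × F)) ^ 3 = 1 := by rw [← e, conj_pow, h3]; group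
      rwa [pow_succ, pow_two, up_mul, Shape.addSelf, up_zero, one_mul] at this
    rw [e3, conj_eq_one_iff] at e
    have hA : σ ∈ s.A := s.centralizer_eq inferInstance hO fun a ha => by
      obtain ⟨v, rfl⟩ := s.exists_vec ha
      have := s.vec_th ⟨σ, hN σ⟩ v
      rw [e] at this
      exact mul_inv_eq_iff_eq_mul.1 this.symm
    have := orderOf_dvd_of_pow_eq_one (show σ ^ 2 = 1 by rw [pow_two]; exact s.A_sq hA)
    rw [hσ] at this; norm_num at this
  obtain ⟨a, b, c, rfl⟩ := (s.mem_iff r).1 hr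
  rw [s.e_mem_A]
  have hcomm : s.th ⟨σ, hN σ⟩ * up b = up b * s.th ⟨σ, hN σ⟩ := by
    rw [← s.th_e a b c (hN _), ← map_mul, ← map_mul]
    exact congrArg s.th (Subtype.ext hc)
  have hcomm' : u * s.th ⟨σ, hN σ⟩ * u⁻¹ * up b = up b * (u * s.th ⟨σ, hN σ⟩ * u⁻¹) := by
    have hu' : u⁻¹ * up b = up b * u⁻¹ :=
      ((show Commute u (up b) from huc b).inv_left).eq
    rw [mul_assoc _ u⁻¹, hu', ← mul_assoc, mul_assoc u, hcomm, ← mul_assoc, huc b]
    simp only [mul_assoc]
  have e0 := congrArg (fun k : Equiv.Perm (F × F) => (k (1, 0)).2) hcomm'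
  rw [Equiv.Perm.mul_apply, Equiv.Perm.mul_apply _ (_ * _), hL, hL] at e0
  simp only [up_apply, zero_add, mul_one] at e0
  by_contra hb
  exact hp (mul_left_cancel₀ hb (by linear_combination -e0))

namespace Moving

variable (h : Moving s)
include h

theorem card_centralizer_of_invol {t : G} (ht : orderOf t = 2) :
    Nat.card ↥(centralizer ({t} : Set G)) = Nat.card ↥(centralizer ({s.z} : Set G)) := by
  obtain ⟨g, rfl⟩ := h.exists_conj ht
  have e : centralizer ({g * s.z * g⁻¹} : Set G) = cjg g (centralizer ({s.z} : Set G)) := by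
    ext x
    rw [mem_cjg, mem_centralizer_singleton_iff, mem_centralizer_singleton_iff]
    constructor
    · intro e
      calc g⁻¹ * x * g * s.z = g⁻¹ * (x * (g * s.z * g⁻¹)) * g := by group
        _ = g⁻¹ * (g * s.z * g⁻¹ * x) * g := by rw [e]
        _ = _ := by group
    · intro e
      calc x * (g * s.z * g⁻¹) = g * (g⁻¹ * x * g * s.z) * g⁻¹ := by group
        _ = g * (s.z * (g⁻¹ * x * g)) * g⁻¹ := by rw [e]
        _ = _ := by group
  rw [e, card_map_of_injective (MulAut.conj g).injective]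

/-- An element of order three centralising an involution is not inverted. -/
theorem nonreal {σ t q : G} (hσ : orderOf σ = 3) (ht : orderOf t = 2) (hc : σ * t = t * σ) :
    q * σ * q⁻¹ ≠ σ⁻¹ := by
  haveI : Fact (Nat.Prime 2) := ⟨Nat.prime_two⟩
  intro hq
  obtain ⟨g, rfl⟩ := h.exists_conj ht
  -- move the involution to `z`
  set τ := g⁻¹ * σ * g with hτ
  have hτo : orderOf τ = 3 := by
    rw [← hσ, hτ, show g⁻¹ * σ * g = g⁻¹ * σ * g⁻¹⁻¹ by group]
    exact (MulAut.conj g⁻¹).orderOf_eq σ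
  have hτz : τ * s.z = s.z * τ := by
    calc τ * s.z = g⁻¹ * (σ * (g * s.z * g⁻¹)) * g := by rw [hτ]; group
      _ = g⁻¹ * (g * s.z * g⁻¹ * σ) * g := by rw [hc]
      _ = _ := by rw [hτ]; group
  set q₁ := g⁻¹ * q * g
  have hq₁ : q₁ * τ * q₁⁻¹ = τ⁻¹ := by
    calc q₁ * τ * q₁⁻¹ = g⁻¹ * (q * σ * q⁻¹) * g := by simp [q₁, hτ, mul_assoc]
      _ = τ⁻¹ := by rw [hq, hτ]; group
  set C := centralizer ({s.z} : Set G)
  have hτC : τ ∈ C := mem_centralizer_singleton_iff.2 hτz
  have hz := s.restrict_z_central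
  have hO := s.oddCore_centralizer h.notA h.notB h.core
  set r := s.restrict C s.S_le_centralizer_z
  have hτ' : orderOf (⟨τ, hτC⟩ : ↥C) = 3 := by rw [← hτo, Subgroup.orderOf_mk]
  -- the fixed points in `S`
  have hfix : ∀ x ∈ (s.S : Subgroup G), τ * x = x * τ → x ∈ s.A ⊓ s.B := by
    intro x hx hcx
    have hxS : (⟨x, s.S_le_centralizer_z hx⟩ : ↥C) ∈ (r.S : Subgroup ↥C) := mem_subgroupOf.2 hx
    have hc' : (⟨τ, hτC⟩ : ↥C) * ⟨x, s.S_le_centralizer_z hx⟩ = ⟨x, s.S_le_centralizer_z hx⟩ * ⟨τ, hτC⟩ := Subtype.ext hcx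
    have h1 := r.fix_of_order_three hz hO hτ' hxS hc'
    rw [s.restrict_A, mem_subgroupOf] at h1
    have h2 := r.mirror.fix_of_order_three (fun g => by rw [r.mirror_z]; exact hz g) hO hτ' hxS hc'
    rw [r.mirror_A] at h2
    obtain ⟨y, c, e⟩ := h2
    exact ⟨h1, ⟨y, c, congrArg Subtype.val e⟩⟩
  have hcent : ∀ a ∈ s.A ⊓ s.B, τ * a = a * τ := by
    rintro a ⟨⟨x, c, rfl⟩, hB⟩
    obtain rfl := s.e_mem_B.1 hB
    haveI := r.normal_A_of_central hz hO
    obtain ⟨u, -, hu⟩ := r.act_of_central hz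
    have hN : (⟨τ, hτC⟩ : ↥C) ∈ normalizer (r.A : Set ↥C) := normalizer_eq_top (H := r.A) ▸ mem_top _
    have e := r.vec_th ⟨_, hN⟩ (0, c)
    rw [(hu ⟨_, hN⟩).1 c] at e
    exact mul_inv_eq_iff_eq_mul.1 (congrArg Subtype.val e).symm
  have hcap : ∀ w ∈ s.A ⊓ s.B, w ≠ 1 → centralizer ({w} : Set G) = C := by
    rintro w ⟨⟨x, c, rfl⟩, hB⟩ hw
    obtain rfl := s.e_mem_B.1 hB
    have hwo : orderOf (s.e 0 0 c) = 2 := orderOf_eq_prime (by rw [pow_two]; exact s.A_sq (s.e_mem_A.2 rfl)) hw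
    refine (eq_of_le_of_card_ge (fun y hy => ?_) (h.card_centralizer_of_invol hwo).le).symm
    refine mem_centralizer_singleton_iff.2 ?_
    haveI := r.normal_A_of_central hz hO
    obtain ⟨u, -, hu⟩ := r.act_of_central hz
    have hN : (⟨y, hy⟩ : ↥C) ∈ normalizer (r.A : Set ↥C) := normalizer_eq_top (H := r.A) ▸ mem_top _
    have e := r.vec_th ⟨_, hN⟩ (0, c)
    rw [(hu ⟨_, hN⟩).1 c] at e
    exact mul_inv_eq_iff_eq_mul.1 (congrArg Subtype.val e).symm
  -- `Z` is a Sylow subgroup of `C(τ)`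
  set K := centralizer ({τ} : Set G)
  set Z4 := s.A ⊓ s.B
  have hZK : Z4 ≤ K := fun a ha => mem_centralizer_singleton_iff.2 (hcent a ha).symm
  have hZp : IsPGroup 2 Z4 := s.A_pGroup.to_le inf_le_left
  have hmax : ∀ P : Subgroup G, IsPGroup 2 P → P ≤ K → Z4 ≤ P → P ≤ Z4 := by
    intro P hP hPK hZP
    have hzP : s.z ∈ P := hZP ⟨s.z_mem_A, s.z_mem_B⟩
    haveI : Nontrivial ↥P := ⟨⟨⟨s.z, hzP⟩, 1, fun e => s.z_ne (congrArg Subtype.val e)⟩⟩
    haveI := hP.center_nontrivial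
    obtain ⟨⟨⟨w, hwP⟩, hwc⟩, hw1⟩ := exists_ne (α := ↥(center ↥P)) 1
    have hw : w ≠ 1 := fun e => hw1 (Subtype.ext (Subtype.ext e))
    have hwcomm : ∀ y ∈ P, y * w = w * y := fun y hy => congrArg Subtype.val (mem_center_iff.1 hwc ⟨y, hy⟩)
    have hwS : w ∈ (s.S : Subgroup G) := h.le_S_of_centralizes (P := zpowers w) (hP.to_le (zpowers_le.2 hwP))
      (zpowers_le.2 (mem_centralizer_singleton_iff.2 (hwcomm _ hzP).symm)) (mem_zpowers w)
    have hwZ := hfix w hwS (mem_centralizer_singleton_iff.1 (hPK hwP)).symm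
    intro y hy
    have hyC : P ≤ C := fun y hy => hcap w hwZ hw ▸ mem_centralizer_singleton_iff.2 (hwcomm y hy)
    exact hfix y (h.le_S_of_centralizes hP hyC hy) (mem_centralizer_singleton_iff.1 (hPK hy)).symm
  obtain ⟨P, hP⟩ := (hZp.comap_of_injective K.subtype K.subtype_injective).exists_le_sylow
  have hPZ : (P : Subgroup ↥K).map K.subtype ≤ Z4 :=
    hmax _ (P.isPGroup'.map _) (map_subtype_le _) fun a ha => ⟨⟨a, hZK ha⟩, hP (mem_subgroupOf.2 ha), rfl⟩
  have hqK : ∀ a ∈ Z4, q₁ * a * q₁⁻¹ ∈ K := fun a ha => by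
    refine mem_centralizer_singleton_iff.2 ?_
    have e : τ = (q₁ * τ * q₁⁻¹)⁻¹ := by rw [hq₁, inv_inv]
    rw [e]
    have := hcent a ha
    calc q₁ * a * q₁⁻¹ * (q₁ * τ * q₁⁻¹)⁻¹ = q₁ * (a * τ⁻¹) * q₁⁻¹ := by group
      _ = q₁ * (τ⁻¹ * a) * q₁⁻¹ := by rw [((show Commute τ a from this).inv_left).eq]
      _ = _ := by group
  obtain ⟨Q, hQ⟩ := ((hZp.map (MulAut.conj q₁).toMonoidHom).comap_of_injective K.subtype
    K.subtype_injective).exists_le_sylow
  obtain ⟨k, hk⟩ := MulAction.exists_smul_eq ↥K Q P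
  set q₂ := (k : G) * q₁
  have hq₂ : q₂ * τ * q₂⁻¹ = τ⁻¹ := by
    have hkτ : Commute (k : G) τ := mem_centralizer_singleton_iff.1 k.2
    calc q₂ * τ * q₂⁻¹ = (k : G) * (q₁ * τ * q₁⁻¹) * (k : G)⁻¹ := by simp [q₂, mul_assoc]
      _ = τ⁻¹ := by rw [hq₁, hkτ.inv_right.eq, mul_inv_cancel_right]
  have hq₂z : q₂ * s.z * q₂⁻¹ ∈ Z4 := by
    have hm : q₁ * s.z * q₁⁻¹ ∈ K := hqK _ ⟨s.z_mem_A, s.z_mem_B⟩
    refine hPZ ⟨k * ⟨_, hm⟩ * k⁻¹, ?_, by simp [q₂, mul_assoc]⟩
    rw [← hk, Sylow.coe_subgroup_smul]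
    exact ⟨_, hQ (mem_subgroupOf.2 ⟨s.z, ⟨s.z_mem_A, s.z_mem_B⟩, rfl⟩), rfl⟩
  -- so `q₂` normalises `C(z)`
  have hq₂C : ∀ y ∈ C, q₂ * y * q₂⁻¹ ∈ C := by
    intro y hy
    rw [← hcap _ hq₂z (fun e => s.z_ne (conj_eq_one_iff.1 e))]
    refine mem_centralizer_singleton_iff.2 ?_
    have := mem_centralizer_singleton_iff.1 hy
    calc q₂ * y * q₂⁻¹ * (q₂ * s.z * q₂⁻¹) = q₂ * (y * s.z) * q₂⁻¹ := by group
      _ = q₂ * (s.z * y) * q₂⁻¹ := by rw [this]
      _ = _ := by group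
  have hq₂S : q₂ ∈ normalizer ((s.S : Subgroup G) : Set G) := mem_normalizer_fintype fun y hy =>
    h.le_S_of_centralizes (P := cjg q₂ (s.S : Subgroup G)) (s.S.isPGroup'.map _)
      (by rintro _ ⟨w, hw, rfl⟩; exact hq₂C w (s.S_le_centralizer_z hw)) ⟨y, hy, rfl⟩
  obtain ⟨i, m, hm, he⟩ := Nat.exists_eq_two_pow_mul_odd (orderOf_pos q₂).ne'
  obtain ⟨j, rfl⟩ := hm
  have hp : IsPGroup 2 (zpowers (q₂ ^ (2 * j + 1))) := fun x => by
    obtain ⟨l, hl⟩ := x.2
    refine ⟨i, Subtype.ext ?_⟩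
    rw [SubmonoidClass.coe_pow, ← hl]
    show ((q₂ ^ (2 * j + 1)) ^ l) ^ 2 ^ i = (1 : G)
    rw [← zpow_natCast ((q₂ ^ (2 * j + 1)) ^ l), ← zpow_mul, mul_comm l, zpow_mul, zpow_natCast, ← pow_mul,
      mul_comm (2 * j + 1), ← he, pow_orderOf_eq_one, one_zpow]
  have hmem : q₂ ^ (2 * j + 1) ∈ (s.S : Subgroup G) := by
    have hsup := IsPGroup.to_sup_of_normal_right' hp s.S.isPGroup' (zpowers_le.2 (pow_mem hq₂S _))
    exact (s.S.is_maximal' hsup le_sup_right) ▸ mem_sup_left (mem_zpowers _)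
  have hpow : ∀ n : ℕ, q₂ ^ (2 * n) * τ * (q₂ ^ (2 * n))⁻¹ = τ := by
    intro n
    induction n with
    | zero => simp
    | succ n ih =>
      have h1 : q₂ * τ⁻¹ * q₂⁻¹ = τ := by
        rw [show q₂ * τ⁻¹ * q₂⁻¹ = (q₂ * τ * q₂⁻¹)⁻¹ by group, hq₂, inv_inv]
      rw [show 2 * (n + 1) = 1 + (1 + 2 * n) by ring, pow_add, pow_add, pow_one]
      calc q₂ * (q₂ * q₂ ^ (2 * n)) * τ * (q₂ * (q₂ * q₂ ^ (2 * n)))⁻¹ =
            q₂ * (q₂ * (q₂ ^ (2 * n) * τ * (q₂ ^ (2 * n))⁻¹) * q₂⁻¹) * q₂⁻¹ := by group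
        _ = τ := by rw [ih, hq₂, h1]
  have hinv : q₂ ^ (2 * j + 1) * τ * (q₂ ^ (2 * j + 1))⁻¹ = τ⁻¹ := by
    rw [pow_succ', show q₂ * q₂ ^ (2 * j) * τ * (q₂ * q₂ ^ (2 * j))⁻¹ =
      q₂ * (q₂ ^ (2 * j) * τ * (q₂ ^ (2 * j))⁻¹) * q₂⁻¹ by group, hpow, hq₂]
  have hτS : τ * τ ∈ (s.S : Subgroup G) := by
    set x := q₂ ^ (2 * j + 1)
    have h1 : x * (τ * x⁻¹ * τ⁻¹) ∈ (s.S : Subgroup G) :=
      Subgroup.mul_mem _ hmem (mem_conj_normalizer (h.centralizer_le_normalizer_S hτC) (Subgroup.inv_mem _ hmem))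
    rw [← mul_assoc, ← mul_assoc, hinv] at h1
    have h2 := Subgroup.inv_mem _ h1
    simpa [mul_inv_rev] using h2
  have h1 := Subgroup.orderOf_mk _ hτS ▸ orderOf_dvd_natCard (⟨τ * τ, hτS⟩ : ↥(s.S : Subgroup G))
  rw [s.card_S] at h1
  have h2 : orderOf (τ * τ) = 3 := by
    rw [← pow_two, orderOf_pow, hτo]; norm_num
  rw [h2] at h1
  norm_num at h1

theorem centralizer_A {g : G} (hg : ∀ a ∈ s.A, g * a = a * g) : g ∈ s.A := by
  have hC : g ∈ centralizer ({s.z} : Set G) := mem_centralizer_singleton_iff.2 (hg _ s.z_mem_A)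
  have hz := s.restrict_z_central
  have hO := s.oddCore_centralizer h.notA h.notB h.core
  set r := s.restrict _ s.S_le_centralizer_z
  haveI := r.normal_A_of_central hz hO
  have h1 := r.centralizer_eq (g := ⟨g, hC⟩) inferInstance hO fun a ha => Subtype.ext (hg _ (by
    rw [s.restrict_A] at ha; exact mem_subgroupOf.1 ha))
  rw [s.restrict_A] at h1
  exact mem_subgroupOf.1 h1

theorem card_normalizer : Nat.card ↥(normalizer (s.A : Set G)) = 15 * Nat.card ↥(centralizer ({s.z} : Set G)) := by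
  classical
  set N := normalizer (s.A : Set G)
  letI : MulAction ↥N (F × F) := MulAction.compHom _ s.th
  have hsmul : ∀ (g : ↥N) (v : F × F), g • v = s.th g v := fun g v => rfl
  have hstab : MulAction.stabilizer ↥N ((0 : F), (1 : F)) = (centralizer ({s.z} : Set G)).subgroupOf N := by
    ext g
    rw [MulAction.mem_stabilizer_iff, mem_subgroupOf, mem_centralizer_singleton_iff, hsmul]
    refine ⟨fun e => ?_, fun e => s.vec_injective ?_⟩
    · have := s.vec_th g (0, 1)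
      rw [e, s.vec_z] at this
      exact mul_inv_eq_iff_eq_mul.1 this.symm
    · rw [s.vec_th, s.vec_z, e, mul_inv_cancel_right]
  have horb : MulAction.orbit ↥N ((0 : F), (1 : F)) = {v | v ≠ 0} := by
    ext v
    refine ⟨?_, fun hv => ?_⟩
    · rintro ⟨g, rfl⟩ e
      have e' : s.th g (0, 1) = s.th g 0 := e.trans (s.th_additive g).map_zero.symm
      exact one_ne_zero (congrArg Prod.snd ((s.th g).injective e') : (1 : F) = 0)
    · obtain ⟨g, hgN, hg⟩ := s.exists_conj_vec h.notA (v := (0, 1)) (by simp) hv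
      exact ⟨⟨g, hgN⟩, s.vec_injective ((s.vec_th ⟨g, hgN⟩ (0, 1)).trans hg)⟩
  have hidx : (MulAction.stabilizer ↥N ((0 : F), (1 : F))).index = 15 := by
    rw [MulAction.index_stabilizer, horb, ← Nat.card_coe_set_eq, Set.coe_setOf, Nat.card_eq_fintype_card,
      Fintype.card_subtype_compl, Fintype.card_subtype_eq, Fintype.card_prod, s.hF]
  have := card_mul_index (MulAction.stabilizer ↥N ((0 : F), (1 : F)))
  rw [hidx, hstab, Nat.card_congr (subgroupOfEquivOfLe h.centralizer_le_normalizer_A).toEquiv] at this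
  omega

/-- At most fourteen involutions exchange two points without a common line. -/
theorem swap_le {P : Subgroup G} {j : G} (hj : orderOf j = 2) (hjP : s.pt j = P)
    (hne : ∀ a b, orderOf a = 2 → orderOf b = 2 → s.pt a = s.A → s.pt b = P → s.ln a ≠ s.ln b) :
    Nat.card {i : G // orderOf i = 2 ∧ cjg i s.A = P} ≤ 14 := by
  classical
  haveI : Fact (Nat.Prime 2) := ⟨Nat.prime_two⟩
  set K := normalizer (s.A : Set G) ⊓ normalizer (P : Set G)
  by_cases hemp : IsEmpty {i : G // orderOf i = 2 ∧ cjg i s.A = P}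
  · simp [Nat.card_of_isEmpty]
  obtain ⟨⟨u, hu, huA⟩⟩ := not_isEmpty_iff.1 hemp
  have huu : u * u = 1 := by rw [← pow_two, ← hu]; exact pow_orderOf_eq_one u
  have hswap : ∀ i : G, orderOf i = 2 → cjg i s.A = P → cjg i P = s.A := fun i hi hiA => by
    rw [← hiA, ← cjg_mul, show i * i = 1 by rw [← pow_two, ← hi]; exact pow_orderOf_eq_one i, cjg_one]
  have hprod : ∀ i : G, orderOf i = 2 → cjg i s.A = P → u * i ∈ K := fun i hi hiA =>
    ⟨mem_normalizer_of_cjg (by rw [cjg_mul, hiA, hswap u hu huA]),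
      mem_normalizer_of_cjg (by rw [cjg_mul, hswap i hi hiA, huA])⟩
  let f : {i : G // orderOf i = 2 ∧ cjg i s.A = P} → ↥K := fun i => ⟨u * i, hprod i i.2.1 i.2.2⟩
  have hf : Function.Injective f := fun a b e => Subtype.ext (mul_left_cancel (congrArg Subtype.val e : u * (a : G) = u * b))
  have hnoinv : ∀ i ∈ K, orderOf i ≠ 2 := by
    intro i hi hio
    obtain ⟨a, ha, hap, hal⟩ := h.inc_of_normalizes (t := s.z) s.z_order hio (h.pt_z.symm ▸ hi.1)
    obtain ⟨b, hb, hbp, hbl⟩ := h.inc_of_normalizes (t := j) hj hio (hjP.symm ▸ hi.2)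
    exact hne a b ha hb (hap.trans h.pt_z) (hbp.trans hjP) (hal.trans hbl.symm)
  have hodd : Odd (Nat.card K) := by
    refine Nat.not_even_iff_odd.1 fun he => ?_
    obtain ⟨x, hx⟩ := exists_prime_orderOf_dvd_card' (G := ↥K) 2 (even_iff_two_dvd.1 he)
    exact hnoinv x x.2 (by rw [Subgroup.orderOf_coe, hx])
  have hKA : K ⊓ s.A = ⊥ := by
    rw [eq_bot_iff]
    rintro x ⟨hx, hxA⟩
    by_contra hne1
    exact hnoinv x hx (orderOf_eq_prime (by rw [pow_two]; exact s.A_sq hxA) fun e => hne1 (mem_bot.2 e))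
  have hdvd : Nat.card K ∣ 180 := by
    have h1 := card_sup_mul_card_inf (H := K) (N := s.A) inf_le_left
    rw [hKA, Subgroup.card_bot, mul_one, s.card_A] at h1
    have h2 : Nat.card ↥(K ⊔ s.A) ∣ Nat.card ↥(normalizer (s.A : Set G)) :=
      Subgroup.card_dvd_of_le (sup_le inf_le_left le_normalizer)
    rw [h1, h.card_normalizer] at h2
    rcases s.card_centralizer h.notA h.notB h.core with e | e <;> rw [e] at h2
    · rw [show 15 * 64 = 60 * 16 from rfl, Nat.mul_dvd_mul_iff_right (by norm_num)] at h2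
      exact h2.trans (by norm_num)
    · rw [show 15 * 192 = 180 * 16 from rfl, Nat.mul_dvd_mul_iff_right (by norm_num)] at h2
      exact h2
  by_cases hsmall : Nat.card K ≤ 14
  · exact (Nat.card_le_card_of_injective f hf).trans hsmall
  -- the exceptional stabiliser
  haveI : Fact (Nat.Prime 5) := ⟨by norm_num⟩
  have hcases : Nat.card K = 15 ∨ Nat.card K = 45 := by
    obtain ⟨d, hd⟩ := hdvd
    obtain ⟨m, hm⟩ := hodd
    have hd0 : d ≤ 12 := by
      by_contra hgt
      have : 15 * 13 ≤ Nat.card K * d := Nat.mul_le_mul (by omega) (by omega)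
      omega
    interval_cases d <;> omega
  obtain ⟨x, hx⟩ := exists_prime_orderOf_dvd_card' (G := ↥K) 5 (by rcases hcases with e | e <;> rw [e] <;> norm_num)
  have hzp : Nat.card ↥(zpowers x) = 5 ^ 1 := by rw [Nat.card_zpowers, hx, pow_one]
  let P5 : Sylow 5 ↥K := Sylow.ofCard (zpowers x) (by
    rw [hzp]
    have h1 : (Nat.card K).factorization 5 = 1 := by
      have h15 : Nat.card K = 5 * 3 ∨ Nat.card K = 5 * 9 := by omega
      rcases h15 with e | e <;> rw [e, Nat.factorization_mul (by norm_num) (by norm_num), Finsupp.add_apply,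
        Nat.Prime.factorization_self (by norm_num : Nat.Prime 5),
        Nat.factorization_eq_zero_of_not_dvd (by norm_num)]
    rw [h1])
  have hsub : Subsingleton (Sylow 5 ↥K) := by
    rw [← Finite.card_le_one_iff_subsingleton]
    have h1 := P5.card_dvd_index
    have h2 := card_sylow_modEq_one 5 ↥K
    have h3 : (P5 : Subgroup ↥K).index ∣ 9 := by
      have := card_mul_index (P5 : Subgroup ↥K)
      rw [show Nat.card (P5 : Subgroup ↥K) = 5 from hzp.trans (pow_one 5)] at this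
      rcases hcases with e | e <;> rw [e] at this
      · rw [show (P5 : Subgroup ↥K).index = 3 by omega]; norm_num
      · rw [show (P5 : Subgroup ↥K).index = 9 by omega]
    have h4 := h1.trans h3
    have h5 := Nat.le_of_dvd (by norm_num) h4
    have h6 : Nat.card (Sylow 5 ↥K) % 5 = 1 := h2
    interval_cases hc : Nat.card (Sylow 5 ↥K) <;> omega
  haveI := hsub
  have hxn : (zpowers x).Normal := P5.normal_of_subsingleton
  have hxc : ∀ k : ↥K, k * x = x * k := by
    intro k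
    obtain ⟨n, hn⟩ : ∃ n : ℕ, x ^ n = k * x * k⁻¹ := by
      obtain ⟨n, hn⟩ := mem_powers_iff_mem_zpowers.2 (hxn.conj_mem x (mem_zpowers x) k)
      exact ⟨n, hn⟩
    have hit : ∀ l : ℕ, k ^ l * x * (k ^ l)⁻¹ = x ^ (n ^ l) := by
      intro l
      induction l with
      | zero => simp
      | succ l ih =>
        rw [pow_succ' k, show k * k ^ l * x * (k * k ^ l)⁻¹ = k * (k ^ l * x * (k ^ l)⁻¹) * k⁻¹ by group, ih,
          ← conj_pow, ← hn, ← pow_mul, pow_succ' n]
    have h45 : k ^ 45 = 1 := orderOf_dvd_iff_pow_eq_one.1 ((orderOf_dvd_natCard k).trans (by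
      rcases hcases with e | e <;> rw [e] <;> norm_num))
    have h1 := hit 45
    rw [h45, one_mul, inv_one, mul_one] at h1
    have h2 : n ^ 45 % 5 = 1 % 5 := by
      have := pow_eq_pow_iff_modEq.1 (h1.symm.trans (pow_one x).symm)
      rwa [hx] at this
    have h3 : n % 5 = 1 := by
      rw [Nat.pow_mod] at h2
      have h5 : n % 5 < 5 := Nat.mod_lt _ (by norm_num)
      interval_cases hn5 : n % 5 <;> first | rfl | norm_num at h2
    rw [← pow_mod_orderOf, hx, h3, pow_one] at hn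
    exact (mul_inv_eq_iff_eq_mul.1 hn.symm)
  -- linear maps
  obtain ⟨v, hv, hvc, hlin⟩ := s.planeGrp.exists_linear
  let L : ↥K → Equiv.Perm (F × F) := fun k => v * s.th ⟨k, k.2.1⟩ * v⁻¹
  have hLl : ∀ k, Lin (L k) := fun k => hlin _ (s.th_mem k.2.1)
  have hLa : ∀ k, Additive' (L k) := fun k => (hv.mul (s.th_additive _)).mul hv.inv
  have hLmul : ∀ a b, L (a * b) = L a * L b := fun a b => by
    have : s.th ⟨((a * b : ↥K) : G), (a * b).2.1⟩ = s.th ⟨a, a.2.1⟩ * s.th ⟨b, b.2.1⟩ := by rw [← map_mul]; rfl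
    simp only [L, this]; group
  have hL1 : L 1 = 1 := by
    have h1 := hLmul 1 1
    rw [one_mul] at h1
    simpa using h1.symm
  have hLinj : Function.Injective L := fun a b e => by
    have e2 : L (a⁻¹ * b) = 1 := by rw [hLmul, ← e, ← hLmul, inv_mul_cancel, hL1]
    have hA : ((a⁻¹ * b : ↥K) : G) ∈ s.A := h.centralizer_A fun c hc => by
      obtain ⟨w, rfl⟩ := s.exists_vec hc
      have := s.vec_th ⟨((a⁻¹ * b : ↥K) : G), (a⁻¹ * b).2.1⟩ w
      rw [conj_eq_one_iff.1 (show L (a⁻¹ * b) = 1 from e2)] at this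
      exact mul_inv_eq_iff_eq_mul.1 this.symm
    have : ((a⁻¹ * b : ↥K) : G) ∈ K ⊓ s.A := ⟨(a⁻¹ * b).2, hA⟩
    rw [hKA, mem_bot] at this
    exact inv_mul_eq_one.1 (Subtype.ext this)
  set e₁ : F × F := (1, 0)
  set w := L x e₁
  have he₁ : e₁ ≠ 0 := by simp [e₁]
  have hne0 : ∀ k, L k e₁ ≠ 0 := fun k e => he₁ ((L k).injective (e.trans (hLa k).map_zero.symm))
  have hindep : ∀ c : F, w ≠ c • e₁ := by
    intro c e
    have hc : c ≠ 0 := fun hc => hne0 x (by rw [show L x e₁ = c • e₁ from e, hc, zero_smul])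
    have h3 : L (x ^ 3) e₁ = e₁ := by
      rw [pow_succ, pow_two, hLmul, hLmul]
      simp only [Equiv.Perm.coe_mul, Function.comp_apply]
      rw [show L x e₁ = c • e₁ from e, hLl x, show L x e₁ = c • e₁ from e, hLl x, hLl x,
        show L x e₁ = c • e₁ from e, smul_smul, smul_smul, mul_assoc, mul_inv_self_sq s.hF hc, one_smul]
    set a := s.vec (v⁻¹ e₁)
    have ha1 : a ≠ 1 := fun h1 => he₁ (by
      have h2 := congrArg v (s.vec_eq_one.1 h1)
      rw [Equiv.Perm.coe_inv, Equiv.apply_symm_apply, hv.map_zero] at h2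
      exact h2)
    have hao : orderOf a = 2 := orderOf_eq_prime (by rw [pow_two]; exact s.A_sq (s.vec_mem _)) ha1
    have hfix : s.th ⟨((x ^ 3 : ↥K) : G), (x ^ 3).2.1⟩ (v⁻¹ e₁) = v⁻¹ e₁ := by
      apply v.injective
      simp only [L, Equiv.Perm.coe_mul, Function.comp_apply] at h3
      rw [h3, Equiv.Perm.coe_inv, Equiv.apply_symm_apply]
    have hmem : ((x ^ 3 : ↥K) : G) ∈ centralizer ({a} : Set G) := by
      have := s.vec_th ⟨((x ^ 3 : ↥K) : G), (x ^ 3).2.1⟩ (v⁻¹ e₁)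
      rw [hfix] at this
      exact mem_centralizer_singleton_iff.2 (mul_inv_eq_iff_eq_mul.1 this.symm)
    have h5 : orderOf ((x ^ 3 : ↥K) : G) = 5 := by
      rw [Subgroup.orderOf_coe, orderOf_pow, hx]; norm_num
    have h6 := Subgroup.orderOf_mk _ hmem ▸ orderOf_dvd_natCard (⟨_, hmem⟩ : ↥(centralizer ({a} : Set G)))
    rw [h5, h.card_centralizer_of_invol hao] at h6
    rcases s.card_centralizer h.notA h.notB h.core with e' | e' <;> rw [e'] at h6 <;> norm_num at h6
  have hspan : ∀ m : F × F, ∃ p : F × F, m = p.1 • e₁ + p.2 • w := by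
    have hinj : Function.Injective fun p : F × F => p.1 • e₁ + p.2 • w := by
      intro p p' e
      simp only at e
      by_cases h2 : p.2 = p'.2
      · rw [h2, add_right_cancel_iff] at e
        have h1 : p.1 * 1 = p'.1 * 1 := congrArg Prod.fst e
        exact Prod.ext (by simpa using h1) h2
      · exfalso
        refine hindep ((p.1 - p'.1) / (p'.2 - p.2)) ?_
        have hd : p'.2 - p.2 ≠ 0 := sub_ne_zero.2 (Ne.symm h2)
        apply smul_right_injective (F × F) hd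
        simp only [smul_smul, mul_div_cancel₀ _ hd]
        rw [sub_smul, sub_smul]
        linear_combination (norm := module) -e
    intro m
    obtain ⟨p, hp⟩ := Finite.injective_iff_surjective.1 hinj m
    exact ⟨p, hp.symm⟩
  have hdet : ∀ (g g' : Equiv.Perm (F × F)), Lin g → Lin g' → Additive' g → Additive' g' →
      g e₁ = g' e₁ → g w = g' w → g = g' := fun g g' hg hg' ga ga' h1 h2 => Equiv.ext fun m => by
    obtain ⟨p, rfl⟩ := hspan m
    rw [ga, ga', hg, hg, hg', hg', h1, h2]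
  have hLx : ∀ k, L k w = L x (L k e₁) := fun k => by
    show L k (L x e₁) = L x (L k e₁)
    have e := congrArg (fun g : Equiv.Perm (F × F) => g e₁) (congrArg L (hxc k))
    simpa [hLmul] using e
  let ev : ↥K → {m : F × F // m ≠ 0} := fun k => ⟨L k e₁, hne0 k⟩
  have hev : Function.Injective ev := fun a b e => by
    have e' : L a e₁ = L b e₁ := congrArg Subtype.val e
    exact hLinj (hdet _ _ (hLl a) (hLl b) (hLa a) (hLa b) e' (by rw [hLx, hLx, e']))
  have hc15 : Nat.card {m : F × F // m ≠ 0} = 15 := by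
    rw [Nat.card_eq_fintype_card, Fintype.card_subtype_compl, Fintype.card_subtype_eq, Fintype.card_prod, s.hF]
  have hK15 : Nat.card K = 15 := by
    have := Nat.card_le_card_of_injective ev hev
    rw [hc15] at this
    omega
  obtain ⟨om, hom0, hom1⟩ := exists_omega s.hF (F := F)
  obtain ⟨σ, hσ⟩ := (hev.bijective_of_nat_card_le (by rw [hc15, hK15])).2 ⟨om • e₁, by simp [e₁, hom0]⟩
  have hσ' : L σ e₁ = om • e₁ := congrArg Subtype.val hσ
  have hσv : ∀ m : F × F, L σ m = om • m := fun m => by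
    obtain ⟨p, rfl⟩ := hspan m
    rw [hLa σ, hLl σ, hLl σ, hσ', hLx, hσ', hLl x, smul_add, smul_comm p.1, smul_comm p.2]
  have hσ3 : orderOf σ = 3 := by
    haveI : Fact (Nat.Prime 3) := ⟨by norm_num⟩
    refine orderOf_eq_prime (hLinj ?_) fun e => hom1 ?_
    · rw [hL1]
      refine Equiv.ext fun m => ?_
      rw [pow_succ, pow_two, hLmul, hLmul]
      simp only [Equiv.Perm.coe_mul, Function.comp_apply, hσv, smul_smul, mul_inv_self_sq s.hF hom0, one_smul,
        Equiv.Perm.coe_one, id]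
    · rw [e, hL1] at hσ'
      simpa [e₁] using (congrArg Prod.fst hσ').symm
  -- an involution centralising `σ`
  obtain ⟨t, ht, htσ⟩ : ∃ t : G, orderOf t = 2 ∧ (σ : G) * t = t * σ := by
    set y := s.e 0 1 0
    have hyN : y ∈ normalizer (s.A : Set G) := s.S_le_normalizer (s.e_mem _ _ _)
    have hyy : y * y = 1 := by rw [s.e_sq, zero_mul, s.e_one]
    have hθσ : ∀ m, v (s.th ⟨σ, σ.2.1⟩ m) = om • v m := fun m => by
      have := hσv (v m)
      simpa [L] using this
    have hcA : y * σ * y * (σ : G)⁻¹ ∈ s.A := by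
      refine h.centralizer_A fun a ha => ?_
      obtain ⟨m, rfl⟩ := s.exists_vec ha
      have hN : y * σ * y * (σ : G)⁻¹ ∈ normalizer (s.A : Set G) :=
        mul_mem (mul_mem (mul_mem hyN σ.2.1) hyN) (inv_mem σ.2.1)
      have e : (⟨_, hN⟩ : ↥(normalizer (s.A : Set G))) = ⟨y, hyN⟩ * ⟨σ, σ.2.1⟩ * ⟨y, hyN⟩ *
          (⟨σ, σ.2.1⟩ : ↥(normalizer (s.A : Set G)))⁻¹ := Subtype.ext rfl
      have h1 : s.th ⟨_, hN⟩ = 1 := by
        rw [e, map_mul, map_mul, map_mul, map_inv, s.th_e, mul_inv_eq_one]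
        refine Equiv.ext fun p => v.injective ?_
        simp only [Equiv.Perm.coe_mul, Function.comp_apply]
        have hc : ∀ q, v (up 1 q) = up 1 (v q) := fun q => congrArg (fun g : Equiv.Perm (F × F) => g q) (hvc 1)
        rw [hc, hθσ, hc, lin_up 1 om, ← Equiv.Perm.mul_apply (up 1) (up 1), up_mul, Shape.addSelf, up_zero, hθσ]
        rfl
      have := s.vec_th ⟨_, hN⟩ m
      rw [h1] at this
      exact mul_inv_eq_iff_eq_mul.1 this.symm
    obtain ⟨c, hc⟩ := s.exists_vec hcA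
    set m := v⁻¹ ((1 + om)⁻¹ • v c)
    have hom : (1 : F) + om ≠ 0 := fun e => hom1 ((CharTwo.add_eq_zero.1 e).symm)
    have hm : c + s.th ⟨σ, σ.2.1⟩ m = m := by
      apply v.injective
      rw [hv, hθσ]
      simp only [m, Equiv.Perm.coe_inv, Equiv.apply_symm_apply, smul_smul]
      conv_lhs => rw [← one_smul F (v c)]
      rw [smul_smul, mul_one, ← add_smul]
      congr 1
      field_simp
      linear_combination (om) * two_eq s.hF (F := F)
    set t := y * s.vec m with htdef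
    have hct : (σ : G) * t * (σ : G)⁻¹ = t := by
      have e := s.vec_th ⟨σ, σ.2.1⟩ m
      calc (σ : G) * t * (σ : G)⁻¹ = (y * y) * ((σ : G) * y * s.vec m * (σ : G)⁻¹) := by rw [hyy, one_mul, htdef]; group
        _ = y * ((y * σ * y * (σ : G)⁻¹) * ((σ : G) * s.vec m * (σ : G)⁻¹)) := by group
        _ = y * (s.vec c * s.vec (s.th ⟨σ, σ.2.1⟩ m)) := by rw [hc, e]
        _ = t := by rw [← s.vec_add, hm]
    have hσt : (σ : G) * t = t * σ := mul_inv_eq_iff_eq_mul.1 hct
    have ht2A : t * t ∈ s.A := by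
      have e : t * t = (y * s.vec m * y⁻¹) * s.vec m := by
        rw [htdef, inv_eq_of_mul_eq_one_right hyy]; simp [mul_assoc]
      rw [e]
      exact s.A.mul_mem (mem_conj_normalizer hyN (s.vec_mem m)) (s.vec_mem m)
    obtain ⟨q, hq⟩ := s.exists_vec ht2A
    have hq0 : q = 0 := by
      have e := s.vec_th ⟨σ, σ.2.1⟩ q
      rw [hq, show (σ : G) * (t * t) * (σ : G)⁻¹ = ((σ : G) * t * (σ : G)⁻¹) * ((σ : G) * t * (σ : G)⁻¹) by group,
        hct, ← hq] at e
      have e2 := congrArg v (s.vec_injective e)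
      rw [hθσ] at e2
      have e3 : (om - 1) • v q = 0 := by rw [sub_smul, one_smul, e2, sub_self]
      rcases smul_eq_zero.1 e3 with e4 | e4
      · exact absurd (sub_eq_zero.1 e4) hom1
      · exact v.injective (e4.trans hv.map_zero.symm)
    refine ⟨t, orderOf_eq_prime (by rw [pow_two, ← hq, hq0, s.vec_zero]) fun e => ?_, hσt⟩
    have : y ∈ s.A := by
      rw [show y = t * (s.vec m)⁻¹ by rw [htdef, mul_inv_cancel_right], e, one_mul]
      exact s.A.inv_mem (s.vec_mem m)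
    exact one_ne_zero (s.e_mem_A.1 this : (1 : F) = 0)
  -- the bound
  set g := x * σ with hg
  have hgo : orderOf g = 15 := by
    rw [hg, (show Commute x σ from (hxc σ).symm).orderOf_mul_eq_mul_orderOf_of_coprime (by rw [hx, hσ3]; norm_num),
      hx, hσ3]
  haveI hcyc : IsCyclic ↥K := isCyclic_of_orderOf_eq_card g (by rw [hgo, hK15])
  have hmemg : ∀ k : ↥K, ∃ n : ℕ, g ^ n = k := fun k => by
    have htop : zpowers g = ⊤ := eq_top_of_card_eq _ (by rw [Nat.card_zpowers, hgo, hK15])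
    obtain ⟨n, hn⟩ := mem_powers_iff_mem_zpowers.2 (htop ▸ mem_top k : k ∈ zpowers g)
    exact ⟨n, hn⟩
  have huK : ∀ k ∈ K, u * k * u ∈ K := fun k hk => ⟨mem_normalizer_of_cjg (by
      rw [cjg_mul, cjg_mul, huA, cjg_eq_self hk.2, hswap u hu huA]), mem_normalizer_of_cjg (by
      rw [cjg_mul, cjg_mul, hswap u hu huA, cjg_eq_self hk.1, huA])⟩
  obtain ⟨l, hl⟩ := hmemg ⟨u * g * u, huK g g.2⟩
  have hconj : ∀ n : ℕ, u * ((g ^ n : ↥K) : G) * u = ((g ^ (l * n) : ↥K) : G) := fun n => by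
    rw [pow_mul, hl]
    push_cast
    have hui : u⁻¹ = u := inv_eq_of_mul_eq_one_right huu
    conv_rhs => rw [show u * (g : G) * u = u * (g : G) * u⁻¹ by rw [hui], conj_pow]
    rw [hui]
  have hg10 : g ^ 10 = σ := by
    rw [hg, (show Commute x σ from (hxc σ).symm).mul_pow,
      show x ^ 10 = 1 by rw [← pow_mod_orderOf, hx]; simp, one_mul, ← pow_mod_orderOf, hσ3]; simp
  have hl3 : l % 3 ≠ 2 := by
    intro hl2
    refine h.nonreal (q := u) (by rw [Subgroup.orderOf_coe, hσ3]) ht htσ ?_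
    have e : l * 10 % 15 = 5 := by omega
    have h5 : g ^ 5 = σ⁻¹ := by
      refine eq_inv_of_mul_eq_one_left ?_
      rw [← hg10, ← pow_add, show 5 + 10 = orderOf g by rw [hgo], pow_orderOf_eq_one]
    have h6 : g ^ (l * 10) = σ⁻¹ := by rw [← pow_mod_orderOf, hgo, e, h5]
    rw [inv_eq_of_mul_eq_one_right huu]
    calc u * (σ : G) * u = u * ((g ^ 10 : ↥K) : G) * u := by rw [hg10]
      _ = ((g ^ (l * 10) : ↥K) : G) := hconj 10
      _ = _ := by rw [h6]; rfl
  have hfive : ∀ i : {i : G // orderOf i = 2 ∧ cjg i s.A = P}, f i ^ 5 = 1 := by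
    rintro ⟨i, hi, hiA⟩
    obtain ⟨n, hn⟩ := hmemg (f ⟨i, hi, hiA⟩)
    have hii : i * i = 1 := by rw [← pow_two, ← hi]; exact pow_orderOf_eq_one i
    have h1 : g ^ (l * n) * g ^ n = 1 := Subtype.ext (by
      rw [Subgroup.coe_mul, ← hconj, hn]
      show u * (u * i) * u * (u * i) = 1
      rw [show u * (u * i) * u * (u * i) = (u * u) * i * (u * u) * i by group, huu, one_mul, mul_one, hii])
    rw [← pow_add] at h1
    have h2 := orderOf_dvd_of_pow_eq_one h1
    rw [hgo] at h2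
    have h3 : 3 ∣ n := by
      have : 3 ∣ l * n + n := (by norm_num : 3 ∣ 15).trans h2
      rw [show l * n + n = (l + 1) * n by ring] at this
      rcases (Nat.prime_three.dvd_mul).1 this with h4 | h4
      · omega
      · exact h4
    rw [← hn, ← pow_mul, ← pow_mod_orderOf, hgo]
    rw [show n * 5 % 15 = 0 by omega, pow_zero]
  letI : Fintype ↥K := Fintype.ofFinite ↥K
  have h5 := IsCyclic.card_pow_eq_one_le (α := ↥K) (n := 5) (by norm_num)
  rw [← Fintype.card_subtype] at h5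
  refine le_trans (Nat.card_le_card_of_injective (fun i => (⟨f i, hfive i⟩ : {k : ↥K // k ^ 5 = 1}))
    fun a b e => hf (congrArg Subtype.val e)) ?_
  rw [Nat.card_eq_fintype_card]
  exact h5.trans (by norm_num)

end Moving

end Cfsg.Agent.Fus.L34T
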