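import Cfsg.Agent.Lib.Fus.L34Type.Affine
import Cfsg.Agent.Lib.Invol.StrongClosed.Balance
import Cfsg.Agent.Lib.Grp.PComponents
import Cfsg.Agent.S1291

/-!
# One class of involutions: the centraliser of an involution is `S` or `S.3`
-/

set_option autoImplicit false
set_option linter.unusedSectionVars false
set_option linter.style.haveILetI false

namespace Cfsg.Agent.Fus.L34T

open Subgroup Cfsg.Agent.Grp Cfsg.Agent.Block.KBalance

universe u v

variable {G : Type u} [Group G] [Finite G] {F : Type v} [Field F] [Fintype F] [CharP F 2] (s : Shape G F)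

namespace Shape

/-- The chosen involution. -/
def z : G := s.e 0 0 1

theorem vec_z : s.vec (0, 1) = s.z := rfl

theorem mirror_z : s.mirror.z = s.z := by simp [z, mirror]

theorem z_mem_A : s.z ∈ s.A := s.e_mem_A.2 rfl

theorem z_mem_B : s.z ∈ s.B := s.e_mem_B.2 rfl

theorem z_ne : s.z ≠ 1 := fun h => one_ne_zero (s.e_eq_one.1 h).2.2

theorem z_order : orderOf s.z = 2 := orderOf_eq_prime (by rw [pow_two]; exact s.A_sq s.z_mem_A) s.z_ne

theorem S_le_centralizer_z : (s.S : Subgroup G) ≤ centralizer ({s.z} : Set G) := fun g hg => by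
  obtain ⟨a, b, c, rfl⟩ := (s.mem_iff g).1 hg
  refine mem_centralizer_singleton_iff.2 ?_
  show s.e a b c * s.e 0 0 1 = s.e 0 0 1 * s.e a b c
  rw [s.e_mul, s.e_mul, mul_zero, zero_mul, add_zero, add_zero, add_zero, add_zero, zero_add, zero_add, add_comm c]

theorem normal_of_pres (hO : Cfsg.oddCore G = ⊥) (h : s.mirror.Pres) : s.A.Normal :=
  s.normal_of_closed (s.closed_of_pres_mirror h) hO

/-- If the automiser moves `Z`, it is transitive. -/
theorem exists_conj_vec (h : ¬ s.Pres) {v w : F × F} (hv : v ≠ 0) (hw : w ≠ 0) :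
    ∃ g : G, g ∈ normalizer (s.A : Set G) ∧ g * s.vec v * g⁻¹ = s.vec w := by
  simp only [Pres, not_forall] at h
  obtain ⟨g, t, ht⟩ := h
  obtain ⟨_, ⟨k, rfl⟩, hk⟩ := s.planeGrp.transitive (s.th_mem g.2) ⟨t, ht⟩ hv hw
  exact ⟨k, k.2, by rw [← s.vec_th, hk]⟩

theorem exists_conj_z_of_mem_A (h : ¬ s.Pres) {a : G} (ha : a ∈ s.A) (ha1 : a ≠ 1) :
    ∃ g : G, g ∈ normalizer (s.A : Set G) ∧ g * s.z * g⁻¹ = a := by
  obtain ⟨v, rfl⟩ := s.exists_vec ha
  rw [← s.vec_z]
  exact s.exists_conj_vec h (by simp) fun e => ha1 (by rw [e, s.vec_zero])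

/-- All involutions are conjugate. -/
theorem exists_conj_z (hA : ¬ s.Pres) (hB : ¬ s.mirror.Pres) {t : G} (ht : orderOf t = 2) :
    ∃ g : G, g * s.z * g⁻¹ = t := by
  have ht2 : t * t = 1 := by rw [← pow_two, ← ht]; exact pow_orderOf_eq_one t
  have hp : IsPGroup 2 (zpowers t) := fun x => by
    obtain ⟨i, hi⟩ := x.2
    refine ⟨1, Subtype.ext ?_⟩
    rw [pow_one, SubmonoidClass.coe_pow, ← hi, pow_two, ← (Commute.refl t).mul_zpow, ht2, one_zpow]
    rfl
  obtain ⟨h, hh⟩ := s.exists_conj_S hp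
  set t' := h * t * h⁻¹
  have h2 : t' * t' = 1 := by
    rw [show t' * t' = h * (t * t) * h⁻¹ by simp [t', mul_assoc], ht2]; group
  have h1 : t' ≠ 1 := fun e => by
    have : t = 1 := by simpa [t'] using e
    rw [this, orderOf_one] at ht; omega
  obtain ⟨g, hg⟩ : ∃ g : G, g * s.z * g⁻¹ = t' := by
    rcases s.mem_A_or_B (hh t (mem_zpowers t)) h2 with ha | hb
    · obtain ⟨g, -, hg⟩ := s.exists_conj_z_of_mem_A hA ha h1; exact ⟨g, hg⟩
    · obtain ⟨g, -, hg⟩ := s.mirror.exists_conj_z_of_mem_A hB (s.mirror_A.symm ▸ hb) h1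
      exact ⟨g, s.mirror_z ▸ hg⟩
  exact ⟨h⁻¹ * g, by rw [show h⁻¹ * g * s.z * (h⁻¹ * g)⁻¹ = h⁻¹ * (g * s.z * g⁻¹) * h by group, hg]; simp [t', mul_assoc]⟩

/-! ### A central involution -/

theorem pres_of_central (hz : ∀ g : G, g * s.z = s.z * g) : s.Pres := fun g t => by
  have e : s.th g (0, 1) = (0, 1) := s.vec_injective (by rw [s.vec_th, s.vec_z, hz, mul_inv_cancel_right])
  exact s.planeGrp.disjoint (s.th_mem g.2) one_ne_zero (by rw [e]) t

theorem normal_A_of_central (hz : ∀ g : G, g * s.z = s.z * g) (hO : Cfsg.oddCore G = ⊥) : s.A.Normal :=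
  s.normal_of_pres hO (s.mirror.pres_of_central fun g => by rw [s.mirror_z]; exact hz g)

theorem normal_B_of_central (hz : ∀ g : G, g * s.z = s.z * g) (hO : Cfsg.oddCore G = ⊥) : s.B.Normal := by
  rw [← s.mirror_A]
  exact s.mirror.normal_A_of_central (fun g => by rw [s.mirror_z]; exact hz g) hO

theorem normal_S_of_central (hz : ∀ g : G, g * s.z = s.z * g) (hO : Cfsg.oddCore G = ⊥) :
    (s.S : Subgroup G).Normal := by
  haveI := s.normal_A_of_central hz hO
  haveI := s.normal_B_of_central hz hO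
  have e : s.A ⊔ s.B = (s.S : Subgroup G) := by
    refine le_antisymm (sup_le s.A_le s.B_le) fun g hg => ?_
    obtain ⟨x, y, z', rfl⟩ := (s.mem_iff g).1 hg
    have : s.e x y z' = s.e x 0 (z' + x * y) * s.e 0 y 0 := by
      rw [s.e_mul, add_zero, zero_add, add_zero, add_assoc, addSelf, add_zero]
    rw [this]
    exact mul_mem (mem_sup_left (s.e_mem_A.2 rfl)) (mem_sup_right (s.e_mem_B.2 rfl))
  rw [← e]
  exact Subgroup.sup_normal _ _

/-- The normal form of the action when `z` is central. -/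
theorem act_of_central (hz : ∀ g : G, g * s.z = s.z * g) :
    ∃ u : Equiv.Perm (F × F), (∀ y, u * up y = up y * u) ∧ ∀ g : ↥(normalizer (s.A : Set G)),
      (∀ t, s.th g (0, t) = (0, t)) ∧ ∃ p r, p ≠ 0 ∧ ∀ v : F × F, (u * s.th g * u⁻¹) v = (p * v.1, v.2 + r * v.1) := by
  obtain ⟨u, hu, huc, hlin⟩ := s.planeGrp.exists_linear
  refine ⟨u, huc, fun g => ?_⟩
  set c := (u (1, 0)).1
  have hu0 : ∀ y, u (0, y) = (0, c * y) := fun y => by
    have h1 := congrArg (fun k : Equiv.Perm (F × F) => k (1, 0)) (huc y)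
    simp only [Equiv.Perm.coe_mul, Function.comp_apply, up_apply, mul_one, zero_add] at h1
    rw [show ((1 : F), y) = (1, 0) + (0, y) by ext <;> simp, hu] at h1
    ext
    · have := congrArg Prod.fst h1; simpa using this
    · have := congrArg Prod.snd h1; simpa [c, mul_comm] using this
  have hc : c ≠ 0 := fun e => one_ne_zero (congrArg Prod.snd (u.injective
    ((hu0 1).trans (by rw [e, zero_mul]; exact hu.map_zero.symm) : u (0, 1) = u (0 : F × F))) : (1 : F) = 0)
  set L := u * s.th g * u⁻¹ with hL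
  have hLl : Lin L := hlin _ (s.th_mem g.2)
  have hLa : Additive' L := (hu.mul (s.th_additive g)).mul hu.inv
  have e : s.th g (0, 1) = (0, 1) := s.vec_injective (by rw [s.vec_th, s.vec_z, hz, mul_inv_cancel_right])
  have hL0 : ∀ y, L (0, y) = (0, y) := fun y => by
    have h1 : L (0, c) = (0, c) := by
      have := hu0 1
      rw [mul_one] at this
      rw [← this]
      simp [hL, e]
    have h2 : ((0 : F), y) = (y / c) • ((0 : F), c) := by ext <;> simp [div_mul_cancel₀ _ hc]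
    rw [h2, hLl, h1]
  refine ⟨fun t => u.injective ?_, (L (1, 0)).1, (L (1, 0)).2, fun h => ?_, fun v => ?_⟩
  · have := hL0 (c * t)
    rw [← hu0 t, hL] at this
    simpa using this
  · have h3 : L (1, 0) = L (0, (L (1, 0)).2) := by rw [hL0]; exact Prod.ext h rfl
    exact one_ne_zero (congrArg Prod.fst (L.injective h3) : (1 : F) = 0)
  · conv_lhs => rw [show v = v.1 • ((1 : F), (0 : F)) + (0, v.2) by ext <;> simp]
    rw [hLa, hLl, hL0]
    ext <;> simp <;> ring

/-- The order when `z` is central. -/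
theorem card_of_central (hz : ∀ g : G, g * s.z = s.z * g) (hO : Cfsg.oddCore G = ⊥) :
    Nat.card G = 64 ∨ Nat.card G = 192 := by
  haveI : Fact (Nat.Prime 2) := ⟨Nat.prime_two⟩
  haveI := s.normal_A_of_central hz hO
  have htop : normalizer (s.A : Set G) = ⊤ := normalizer_eq_top (H := s.A)
  obtain ⟨u, -, hu⟩ := s.act_of_central hz
  have hker : s.th.ker = s.A.subgroupOf (normalizer (s.A : Set G)) := by
    ext ⟨g, hg⟩
    rw [MonoidHom.mem_ker, mem_subgroupOf]
    refine ⟨fun h => s.centralizer_eq inferInstance hO fun a ha => ?_, fun h => Equiv.ext fun v => s.vec_injective ?_⟩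
    · obtain ⟨v, rfl⟩ := s.exists_vec ha
      have := s.vec_th ⟨g, hg⟩ v
      rw [h] at this
      exact mul_inv_eq_iff_eq_mul.1 this.symm
    · rw [s.vec_th]
      show g * s.vec v * g⁻¹ = s.vec v
      rw [s.A_comm h (s.vec_mem v), mul_inv_cancel_right]
  have hrange : Nat.card s.th.range ≤ 12 := by
    classical
    have hinj : ∀ k : ↥s.th.range, ∃ pr : {p : F // p ≠ 0} × F, ∀ v : F × F,
        (u * (k : Equiv.Perm (F × F)) * u⁻¹) v = ((pr.1 : F) * v.1, v.2 + pr.2 * v.1) := by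
      rintro ⟨_, g, rfl⟩
      obtain ⟨-, p, r, hp, h⟩ := hu g
      exact ⟨(⟨p, hp⟩, r), h⟩
    choose f hf using hinj
    refine le_trans (Nat.card_le_card_of_injective f fun a b e => Subtype.ext ?_) (le_of_eq ?_)
    · have : u * (a : Equiv.Perm (F × F)) * u⁻¹ = u * (b : Equiv.Perm (F × F)) * u⁻¹ :=
        Equiv.ext fun v => by rw [hf, hf, e]
      exact mul_left_cancel (mul_right_cancel this)
    · rw [Nat.card_prod, Nat.card_eq_fintype_card, Nat.card_eq_fintype_card, Fintype.card_subtype_compl,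
        Fintype.card_subtype_eq, s.hF]
  have hG : Nat.card G = 16 * Nat.card s.th.range := by
    have := card_mul_index s.th.ker
    rw [index_ker, hker, Nat.card_congr (subgroupOfEquivOfLe (le_normalizer)).toEquiv, s.card_A,
      show Nat.card ↥(normalizer (s.A : Set G)) = Nat.card G by rw [htop, Subgroup.card_top]] at this
    exact this.symm
  have hS := card_mul_index (s.S : Subgroup G)
  rw [s.card_S] at hS
  have hodd : ¬ 2 ∣ (s.S : Subgroup G).index := s.S.not_dvd_index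
  omega

/-! ### Cores -/

/-- The central quotient of `C(z)`. -/
theorem exists_quot : ∃ (Q : Type u) (_ : Group Q) (_ : Finite Q) (π : ↥(centralizer ({s.z} : Set G)) →* Q)
    (sQ : Shape Q F), Cfsg.oddCore Q = ⊥ ∧ (∀ g : Q, g * sQ.z = sQ.z * g) ∧
      π.ker = Cfsg.pPrimeCore 2 ↥(centralizer ({s.z} : Set G)) ∧
      sQ.A = (s.A.subgroupOf (centralizer ({s.z} : Set G))).map π := by
  haveI : Fact (Nat.Prime 2) := ⟨Nat.prime_two⟩
  set C := centralizer ({s.z} : Set G)
  haveI : (Cfsg.pPrimeCore 2 ↥C).Normal := pPrimeCore_isNormal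
  let π := QuotientGroup.mk' (Cfsg.pPrimeCore 2 ↥C)
  have hsur : Function.Surjective π := QuotientGroup.mk'_surjective _
  have hodd : Odd (Nat.card π.ker) := by
    rw [QuotientGroup.ker_mk']
    exact Nat.coprime_two_right.1 pPrimeCore_coprime
  refine ⟨↥C ⧸ Cfsg.pPrimeCore 2 ↥C, inferInstance, inferInstance, π,
    (s.restrict C s.S_le_centralizer_z).map π hsur hodd, Grp.pPrimeCore_quotient_bot, fun g => ?_,
    QuotientGroup.ker_mk' _, ?_⟩
  · obtain ⟨g, rfl⟩ := hsur g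
    show π g * π _ = π _ * π g
    rw [← map_mul, ← map_mul]
    exact congrArg π (Subtype.ext (mem_centralizer_singleton_iff.1 g.2))
  · rw [map_A, restrict_A]

/-- A subgroup of odd order of `C(z)` normalised by `A` is in the core. -/
theorem le_core_z {D : Subgroup G} (hD : D ≤ centralizer ({s.z} : Set G)) (hodd : Odd (Nat.card D))
    (hn : ∀ a ∈ s.A, ∀ d ∈ D, a * d * a⁻¹ ∈ D) : D ≤ Cfsg.centralizerPPrimeCore 2 s.z := by
  set C := centralizer ({s.z} : Set G)
  obtain ⟨Q, _, _, π, sQ, hO, hz, hker, hQA⟩ := s.exists_quot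
  haveI := sQ.normal_A_of_central hz hO
  have hAC : s.A ≤ C := s.A_le.trans s.S_le_centralizer_z
  intro d hd
  have hordd : ∀ (y : G) (hy : y ∈ D), Odd (orderOf (π ⟨y, hD hy⟩)) := fun y hy =>
    hodd.of_dvd_nat ((orderOf_map_dvd π _).trans (by
      rw [← Subgroup.orderOf_coe]
      exact Subgroup.orderOf_coe (⟨y, hy⟩ : ↥D) ▸ orderOf_dvd_natCard (⟨y, hy⟩ : ↥D)))
  have hone : ∀ y : Q, y ∈ sQ.A → Odd (orderOf y) → y = 1 := fun y hy ho => by
    refine orderOf_eq_one_iff.1 ?_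
    have h2 := orderOf_dvd_of_pow_eq_one (show y ^ 2 = 1 by rw [pow_two]; exact sQ.A_sq hy)
    rcases (Nat.dvd_prime Nat.prime_two).1 h2 with h | h
    · exact h
    · rw [h] at ho; exact absurd ho (by decide)
  have hdA : π ⟨d, hD hd⟩ ∈ sQ.A := by
    refine sQ.centralizer_eq inferInstance hO fun a ha => ?_
    rw [hQA] at ha
    obtain ⟨⟨b, hbC⟩, hb, rfl⟩ := ha
    have hbA : b ∈ s.A := mem_subgroupOf.1 hb
    set c : G := d * (b * d⁻¹ * b⁻¹)
    have hcD : c ∈ D := D.mul_mem hd (hn b hbA _ (D.inv_mem hd))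
    have e : π ⟨c, hD hcD⟩ = π ⟨d, hD hd⟩ * π ⟨b, hbC⟩ * (π ⟨d, hD hd⟩)⁻¹ * (π ⟨b, hbC⟩)⁻¹ := by
      rw [← map_inv, ← map_inv, ← map_mul, ← map_mul, ← map_mul]
      exact congrArg π (Subtype.ext (by simp [c, mul_assoc]))
    have hπb : π ⟨b, hbC⟩ ∈ sQ.A := hQA ▸ ⟨_, hb, rfl⟩
    have h1 := hone _ (by
      rw [e]; exact sQ.A.mul_mem (Normal.conj_mem inferInstance _ hπb _) (sQ.A.inv_mem hπb)) (hordd c hcD)
    rw [e] at h1
    exact mul_inv_eq_iff_eq_mul.1 (mul_inv_eq_one.1 h1)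
  have h1 := hone _ hdA (hordd d hd)
  rw [← MonoidHom.mem_ker, hker] at h1
  exact ⟨_, h1, rfl⟩

theorem le_core (hA : ¬ s.Pres) {a : G} (ha : a ∈ s.A) (ha1 : a ≠ 1) {D : Subgroup G}
    (hD : D ≤ centralizer ({a} : Set G)) (hodd : Odd (Nat.card D))
    (hn : ∀ b ∈ s.A, ∀ d ∈ D, b * d * b⁻¹ ∈ D) : D ≤ Cfsg.centralizerPPrimeCore 2 a := by
  haveI : Fact (Nat.Prime 2) := ⟨Nat.prime_two⟩
  obtain ⟨n, hnN, rfl⟩ := s.exists_conj_z_of_mem_A hA ha ha1
  intro d hd
  have h := s.le_core_z (D := D.map (MulAut.conj n⁻¹).toMonoidHom) ?_ ?_ ?_ ⟨d, hd, rfl⟩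
  · have h2 := Invol.StrongClosed.centralizerPPrimeCore_conj_mem (n := n) h
    simpa [mul_assoc] using h2
  · rintro _ ⟨y, hy, rfl⟩
    refine mem_centralizer_singleton_iff.2 ?_
    have := mem_centralizer_singleton_iff.1 (hD hy)
    show n⁻¹ * y * n⁻¹⁻¹ * s.z = s.z * (n⁻¹ * y * n⁻¹⁻¹)
    rw [inv_inv]
    calc n⁻¹ * y * n * s.z = n⁻¹ * (y * (n * s.z * n⁻¹)) * n := by group
      _ = n⁻¹ * (n * s.z * n⁻¹ * y) * n := by rw [this]
      _ = _ := by group
  · rwa [card_map_of_injective (MulAut.conj _).injective]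
  · rintro b hb _ ⟨y, hy, rfl⟩
    refine ⟨n * b * n⁻¹ * y * (n * b * n⁻¹)⁻¹, hn _ (mem_conj_normalizer hnN hb) y hy, ?_⟩
    simp [mul_assoc]

theorem isBalanced (hA : ¬ s.Pres) (hB : ¬ s.mirror.Pres) : Cfsg.IsBalanced G := by
  haveI : Fact (Nat.Prime 2) := ⟨Nat.prime_two⟩
  suffices key : ∀ x y : G, orderOf x = 2 → orderOf y = 2 → x * y = y * x →
      Cfsg.centralizerPPrimeCore 2 x ⊓ centralizer {y} ≤ Cfsg.centralizerPPrimeCore 2 y by
    intro x y hx hy hxy
    exact le_antisymm (le_inf (key x y hx hy hxy) fun d hd => mem_centralizer_singleton_iff.2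
        (centralizerPPrimeCore_commute hd.1))
      (le_inf (key y x hy hx hxy.symm) fun d hd => mem_centralizer_singleton_iff.2
        (centralizerPPrimeCore_commute hd.1))
  intro x y hx hy hxy
  have hsq : ∀ t : G, orderOf t = 2 → t * t = 1 := fun t ht => by rw [← pow_two, ← ht]; exact pow_orderOf_eq_one t
  have hp : ∀ t : G, orderOf t = 2 → IsPGroup 2 (zpowers t) := fun t ht w => by
    obtain ⟨i, hi⟩ := w.2
    refine ⟨1, Subtype.ext ?_⟩
    rw [pow_one, SubmonoidClass.coe_pow, ← hi, pow_two, ← (Commute.refl t).mul_zpow, hsq t ht, one_zpow]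
    rfl
  have hnorm : zpowers x ≤ normalizer ((zpowers y : Subgroup G) : Set G) := by
    refine zpowers_le.2 (centralizer_le_normalizer _ (mem_centralizer_iff.2 ?_))
    rintro _ ⟨i, rfl⟩
    exact (((show Commute x y from hxy).zpow_right i).eq).symm
  obtain ⟨h, hh⟩ := s.exists_conj_S (IsPGroup.to_sup_of_normal_right' (hp x hx) (hp y hy) hnorm)
  set x' := h * x * h⁻¹ with hx'
  set y' := h * y * h⁻¹ with hy'
  have hx'o : orderOf x' = 2 := by rw [hx', ← hx]; exact (MulAut.conj h).orderOf_eq x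
  have hy'o : orderOf y' = 2 := by rw [hy', ← hy]; exact (MulAut.conj h).orderOf_eq y
  have hx'S := hh x (mem_sup_left (mem_zpowers x))
  have hy'S := hh y (mem_sup_right (mem_zpowers y))
  have hxy' : x' * y' = y' * x' := by
    rw [hx', hy', show h * x * h⁻¹ * (h * y * h⁻¹) = h * (x * y) * h⁻¹ by group, hxy]; group
  -- a radical containing both
  obtain ⟨r, hr, hxr, hyr⟩ : ∃ r : Shape G F, ¬ r.Pres ∧ x' ∈ r.A ∧ y' ∈ r.A := by
    by_cases h1 : x' ∈ s.A ∧ y' ∈ s.A
    · exact ⟨s, hA, h1⟩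
    refine ⟨s.mirror, hB, ?_⟩
    rw [s.mirror_A]
    have hx2 := s.mem_A_or_B hx'S (hsq _ hx'o)
    have hy2 := s.mem_A_or_B hy'S (hsq _ hy'o)
    refine ⟨?_, ?_⟩
    · by_contra hxB
      have hxA := hx2.resolve_right hxB
      exact h1 ⟨hxA, s.mem_A_of_comm hy'S hxA hxB hxy'.symm⟩
    · by_contra hyB
      have hyA := hy2.resolve_right hyB
      exact h1 ⟨s.mem_A_of_comm hx'S hyA hyB hxy', hyA⟩
  have hy1 : y' ≠ 1 := fun e => by rw [e, orderOf_one] at hy'o; omega
  have key : Cfsg.centralizerPPrimeCore 2 x' ⊓ centralizer {y'} ≤ Cfsg.centralizerPPrimeCore 2 y' := by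
    refine r.le_core hr hyr hy1 inf_le_right ?_ ?_
    · exact Nat.coprime_two_right.1 ((centralizerPPrimeCore_coprime x').coprime_dvd_left
        (Subgroup.card_dvd_of_le inf_le_left))
    · intro b hb d hd
      have hbx : b * x' = x' * b := r.A_comm hb hxr
      refine ⟨centralizerPPrimeCore_conj hbx hd.1, ?_⟩
      have hb' : b ∈ centralizer ({y'} : Set G) := mem_centralizer_singleton_iff.2 (r.A_comm hb hyr)
      exact Subgroup.mul_mem _ (Subgroup.mul_mem _ hb' hd.2) (Subgroup.inv_mem _ hb')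
  intro d hd
  have h1 : h * d * h⁻¹ ∈ Cfsg.centralizerPPrimeCore 2 x' ⊓ centralizer {y'} := by
    refine ⟨Invol.StrongClosed.centralizerPPrimeCore_conj_mem hd.1, mem_centralizer_singleton_iff.2 ?_⟩
    rw [hy', show h * d * h⁻¹ * (h * y * h⁻¹) = h * (d * y) * h⁻¹ by group, mem_centralizer_singleton_iff.1 hd.2]
    group
  have h2 := Invol.StrongClosed.centralizerPPrimeCore_conj_mem (n := h⁻¹) (key h1)
  simpa [hy', mul_assoc] using h2

theorem isFourConnected : Cfsg.IsFourConnected ↥(s.S : Subgroup G) := by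
  set T := (s.S : Subgroup G)
  intro U V hU hV
  let Z4 : Subgroup ↥T := (s.A ⊓ s.B).subgroupOf T
  have hsq : ∀ W : Subgroup ↥T, IsKleinFour W → ∀ w ∈ W.map T.subtype, w * w = 1 := by
    rintro W hW _ ⟨w, hw, rfl⟩
    haveI := hW
    have := IsKleinFour.mul_self (⟨w, hw⟩ : ↥W)
    exact congrArg (fun k : ↥W => ((k : ↥T) : G)) this
  have hcomm : ∀ W : Subgroup ↥T, IsKleinFour W → ∀ a ∈ W, ∀ b ∈ Z4, a * b = b * a := by
    intro W hW a ha b hb
    have hb' := mem_subgroupOf.1 hb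
    refine Subtype.ext ?_
    rcases s.sub_A_or_B (U := W.map T.subtype) (map_subtype_le _) (hsq W hW) with h | h
    · exact s.A_comm (h ⟨a, ha, rfl⟩) hb'.1
    · exact s.mirror.A_comm (s.mirror_A.symm ▸ h ⟨a, ha, rfl⟩) (s.mirror_A.symm ▸ hb'.2)
  have hZ : IsKleinFour Z4 := by
    refine ⟨?_, ?_⟩
    · rw [Nat.card_congr (subgroupOfEquivOfLe (inf_le_left.trans s.A_le)).toEquiv]
      have hb : Function.Bijective (fun c : F => (⟨s.e 0 0 c, s.e_mem_A.2 rfl, s.e_mem_B.2 rfl⟩ : ↥(s.A ⊓ s.B))) := by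
        refine ⟨fun a b h => (s.e_inj _ _ _ _ _ _ (congrArg Subtype.val h)).2.2, ?_⟩
        rintro ⟨_, ⟨x, c, rfl⟩, hB'⟩
        obtain rfl := s.e_mem_B.1 hB'
        exact ⟨c, rfl⟩
      rw [← Nat.card_eq_of_bijective _ hb, Nat.card_eq_fintype_card, s.hF]
    · have hsq' : ∀ w : ↥Z4, w ^ 2 = 1 := fun w => by
        refine Subtype.ext (Subtype.ext ?_)
        rw [pow_two]
        exact s.A_sq (mem_subgroupOf.1 w.2).1
      rcases (Nat.dvd_prime Nat.prime_two).1 (Monoid.exponent_dvd_of_forall_pow_eq_one hsq') with h | h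
      · exfalso
        haveI := Monoid.exp_eq_one_iff.1 h
        have hm : (⟨s.z, s.A_le s.z_mem_A⟩ : ↥T) ∈ Z4 := mem_subgroupOf.2 ⟨s.z_mem_A, s.z_mem_B⟩
        exact s.z_ne (congrArg (fun k : ↥Z4 => ((k : ↥T) : G)) (Subsingleton.elim ⟨_, hm⟩ 1))
      · exact h
  exact (Relation.ReflTransGen.single ⟨hU, hZ, hcomm U hU⟩).tail
    ⟨hZ, hV, fun a ha b hb => (hcomm V hV b hb a ha).symm⟩

/-- The centraliser of an involution has no core. -/
theorem core_eq_bot (hA : ¬ s.Pres) (hB : ¬ s.mirror.Pres) (hO : Cfsg.oddCore G = ⊥) {t : G} (ht : orderOf t = 2) :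
    Cfsg.centralizerPPrimeCore 2 t = ⊥ :=
  S1291.result (s.isBalanced hA hB) hO
    (fun h => by
      have := h s.A s.A_elem.1 s.A_elem.2
      rw [s.card_A] at this; norm_num at this)
    (.inr ⟨s.S, s.isFourConnected⟩) t ht

theorem oddCore_centralizer (hA : ¬ s.Pres) (hB : ¬ s.mirror.Pres) (hO : Cfsg.oddCore G = ⊥) :
    Cfsg.oddCore ↥(centralizer ({s.z} : Set G)) = ⊥ :=
  (map_eq_bot_iff_of_injective _ (centralizer ({s.z} : Set G)).subtype_injective).1 (s.core_eq_bot hA hB hO s.z_order)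

theorem restrict_z_central :
    ∀ g : ↥(centralizer ({s.z} : Set G)), g * (s.restrict _ s.S_le_centralizer_z).z =
      (s.restrict _ s.S_le_centralizer_z).z * g := fun g => Subtype.ext (mem_centralizer_singleton_iff.1 g.2)

theorem card_centralizer (hA : ¬ s.Pres) (hB : ¬ s.mirror.Pres) (hO : Cfsg.oddCore G = ⊥) :
    Nat.card ↥(centralizer ({s.z} : Set G)) = 64 ∨ Nat.card ↥(centralizer ({s.z} : Set G)) = 192 :=
  (s.restrict _ s.S_le_centralizer_z).card_of_central s.restrict_z_central (s.oddCore_centralizer hA hB hO)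

end Shape

end Cfsg.Agent.Fus.L34T
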