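import Cfsg.Agent.Lib.Fus.L34Type.Bound
import Cfsg.Agent.Lib.Spor.SteinerAut

/-!
# There are twenty-one points, and they form a plane of order four
-/

set_option autoImplicit false
set_option linter.unusedSectionVars false
set_option linter.style.haveILetI false

namespace Cfsg.Agent.Fus.L34T

open Subgroup Cfsg.Agent.Grp Finset

universe u v

variable {G : Type u} [Group G] [Finite G] {F : Type v} [Field F] [Fintype F] [CharP F 2] {s : Shape G F}

/-- The involutions. -/
noncomputable def invols (G : Type u) [Group G] [Finite G] : Finset G :=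
  letI := Fintype.ofFinite G
  Finset.univ.filter fun t => orderOf t = 2

theorem mem_invols {t : G} : t ∈ invols G ↔ orderOf t = 2 := by
  classical
  simp [invols]

open scoped _root_.Classical in
/-- The points. -/
noncomputable def Shape.points (s : Shape G F) : Finset (Subgroup G) := (invols G).image s.pt

open scoped _root_.Classical in
/-- The lines through a point. -/
noncomputable def Shape.linesThrough (s : Shape G F) (U : Subgroup G) : Finset (Subgroup G) :=
  ((invols G).filter fun t => s.pt t = U).image s.ln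

open scoped _root_.Classical in
/-- The points of a line. -/
noncomputable def Shape.pointsOn (s : Shape G F) (W : Subgroup G) : Finset (Subgroup G) :=
  ((invols G).filter fun t => s.ln t = W).image s.pt

theorem Shape.mem_pointsOn {s : Shape G F} {U W : Subgroup G} :
    U ∈ s.pointsOn W ↔ ∃ t, orderOf t = 2 ∧ s.ln t = W ∧ s.pt t = U := by
  classical
  simp [Shape.pointsOn, mem_invols, and_assoc]

theorem Shape.mem_linesThrough {s : Shape G F} {U W : Subgroup G} :
    W ∈ s.linesThrough U ↔ ∃ t, orderOf t = 2 ∧ s.pt t = U ∧ s.ln t = W := by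
  classical
  simp [Shape.linesThrough, mem_invols, and_assoc]

theorem Shape.mem_points {s : Shape G F} {U : Subgroup G} : U ∈ s.points ↔ ∃ t, orderOf t = 2 ∧ s.pt t = U := by
  classical
  simp [Shape.points, mem_invols]

namespace Moving

variable (h : Moving s)
include h

theorem sq_of_mem_pt {t x : G} (ht : orderOf t = 2) (hx : x ∈ s.pt t) : x * x = 1 := by
  obtain ⟨g, hg, -⟩ := h.pt_spec ht
  rw [← hg] at hx
  obtain ⟨a, ha, rfl⟩ := hx
  rw [← map_mul, s.A_sq ha, map_one]

open scoped _root_.Classical in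
theorem card_fibre {t : G} (ht : orderOf t = 2) : ((invols G).filter fun i => s.pt i = s.pt t).card = 15 := by
  letI := Fintype.ofFinite G
  have e : ((invols G).filter fun i => s.pt i = s.pt t) = (Finset.univ.filter fun i => i ∈ s.pt t).erase 1 := by
    ext i
    simp only [Finset.mem_filter, mem_invols, Finset.mem_erase, Finset.mem_univ, true_and]
    constructor
    · rintro ⟨hi, e⟩
      exact ⟨fun e1 => by rw [e1, orderOf_one] at hi; omega, e ▸ h.mem_pt hi⟩
    · rintro ⟨h1, hm⟩
      have hi : orderOf i = 2 := orderOf_eq_prime (by rw [pow_two]; exact h.sq_of_mem_pt ht hm) h1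
      exact ⟨hi, h.pt_eq_of_mem ht hi hm⟩
  have hc : (Finset.univ.filter fun i => i ∈ s.pt t).card = 16 := by
    rw [← Fintype.card_subtype, ← Nat.card_eq_fintype_card]
    exact h.card_pt ht
  rw [e, Finset.card_erase_of_mem (by simp), hc]

open scoped _root_.Classical in
theorem card_flag {t : G} (ht : orderOf t = 2) :
    ((invols G).filter fun i => s.pt i = s.pt t ∧ s.ln i = s.ln t).card = 3 := by
  letI := Fintype.ofFinite G
  have e : ((invols G).filter fun i => s.pt i = s.pt t ∧ s.ln i = s.ln t) =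
      (Finset.univ.filter fun i => i ∈ s.pt t ⊓ s.ln t).erase 1 := by
    ext i
    simp only [Finset.mem_filter, mem_invols, Finset.mem_erase, Finset.mem_univ, true_and, Subgroup.mem_inf]
    constructor
    · rintro ⟨hi, e, e'⟩
      exact ⟨fun e1 => by rw [e1, orderOf_one] at hi; omega, e ▸ h.mem_pt hi, e' ▸ h.mem_ln hi⟩
    · rintro ⟨h1, hm, hm'⟩
      have hi : orderOf i = 2 := orderOf_eq_prime (by rw [pow_two]; exact h.sq_of_mem_pt ht hm) h1
      exact ⟨hi, h.pt_eq_of_mem ht hi hm, h.ln_eq_of_mem ht hi hm'⟩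
  have hc : (Finset.univ.filter fun i => i ∈ s.pt t ⊓ s.ln t).card = 4 := by
    rw [← Fintype.card_subtype, ← Nat.card_eq_fintype_card]
    obtain ⟨c, rfl⟩ := h.exists_conj ht
    show Nat.card ↥(s.pt (c * s.z * c⁻¹) ⊓ s.ln (c * s.z * c⁻¹)) = 4
    rw [h.pt_conj s.z_order, h.ln_conj s.z_order, h.pt_z, h.ln_z, ← Subgroup.map_inf _ _ _ (MulAut.conj c).injective,
      card_map_of_injective (MulAut.conj c).injective]
    have hb : Function.Bijective (fun a : F => (⟨s.e 0 0 a, s.e_mem_A.2 rfl, s.e_mem_B.2 rfl⟩ : ↥(s.A ⊓ s.B))) := by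
      refine ⟨fun a b h => (s.e_inj _ _ _ _ _ _ (congrArg Subtype.val h)).2.2, ?_⟩
      rintro ⟨_, ⟨x, a, rfl⟩, hB'⟩
      obtain rfl := s.e_mem_B.1 hB'
      exact ⟨a, rfl⟩
    rw [← Nat.card_eq_of_bijective _ hb, Nat.card_eq_fintype_card, s.hF]
  rw [e, Finset.card_erase_of_mem (by simp), hc]

open scoped _root_.Classical in
theorem card_linesThrough {t : G} (ht : orderOf t = 2) : (s.linesThrough (s.pt t)).card = 5 := by
  have h1 := Finset.card_eq_sum_card_image s.ln ((invols G).filter fun i => s.pt i = s.pt t)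
  rw [h.card_fibre ht] at h1
  have h2 : ∀ W ∈ ((invols G).filter fun i => s.pt i = s.pt t).image s.ln,
      (((invols G).filter fun i => s.pt i = s.pt t).filter fun i => s.ln i = W).card = 3 := by
    intro W hW
    obtain ⟨i, hi, rfl⟩ := Finset.mem_image.1 hW
    obtain ⟨hi, e⟩ := Finset.mem_filter.1 hi
    rw [Finset.filter_filter, ← e]
    exact h.card_flag (mem_invols.1 hi)
  rw [Finset.sum_congr rfl h2, Finset.sum_const, smul_eq_mul] at h1
  have : (s.linesThrough (s.pt t)).card * 3 = 15 := h1.symm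
  omega

theorem mirror_pointsOn (W : Subgroup G) : s.pointsOn W = s.mirror.linesThrough W := by
  classical
  ext U
  rw [Shape.mem_pointsOn, Shape.mem_linesThrough]
  exact ⟨fun ⟨t, ht, h1, h2⟩ => ⟨t, ht, h1, (h.mirror_ln ht).trans h2⟩,
    fun ⟨t, ht, h1, h2⟩ => ⟨t, ht, h1, (h.mirror_ln ht).symm.trans h2⟩⟩

theorem card_pointsOn {t : G} (ht : orderOf t = 2) : (s.pointsOn (s.ln t)).card = 5 := by
  rw [h.mirror_pointsOn]
  exact h.mirror.card_linesThrough ht

theorem line_unique {U V W W' : Subgroup G} (hUV : U ≠ V) (hU : U ∈ s.pointsOn W) (hV : V ∈ s.pointsOn W)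
    (hU' : U ∈ s.pointsOn W') (hV' : V ∈ s.pointsOn W') : W = W' := by
  obtain ⟨t₁, h₁, l₁, p₁⟩ := Shape.mem_pointsOn.1 hU
  obtain ⟨t₂, h₂, l₂, p₂⟩ := Shape.mem_pointsOn.1 hU'
  obtain ⟨t₃, h₃, l₃, p₃⟩ := Shape.mem_pointsOn.1 hV
  obtain ⟨t₄, h₄, l₄, p₄⟩ := Shape.mem_pointsOn.1 hV'
  by_contra hne
  apply hUV
  rw [← p₁, ← p₃]
  exact h.unique_line h₁ h₂ h₃ h₄ (p₁.trans p₂.symm) (p₃.trans p₄.symm) (l₁.trans l₃.symm) (l₂.trans l₄.symm)
    (by rw [l₁, l₂]; exact hne)

theorem pointsOn_subset (W : Subgroup G) : s.pointsOn W ⊆ s.points := fun U hU => by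
  obtain ⟨t, ht, -, e⟩ := Shape.mem_pointsOn.1 hU
  exact Shape.mem_points.2 ⟨t, ht, e⟩

theorem conj_pointsOn {U W : Subgroup G} (c : G) (hU : U ∈ s.pointsOn W) : cjg c U ∈ s.pointsOn (cjg c W) := by
  obtain ⟨t, ht, l, p⟩ := Shape.mem_pointsOn.1 hU
  exact Shape.mem_pointsOn.2 ⟨c * t * c⁻¹, h.order_conj ht c, by rw [h.ln_conj ht, l], by rw [h.pt_conj ht, p]⟩

theorem conj_points {U : Subgroup G} (c : G) (hU : U ∈ s.points) : cjg c U ∈ s.points := by
  obtain ⟨t, ht, p⟩ := Shape.mem_points.1 hU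
  exact Shape.mem_points.2 ⟨c * t * c⁻¹, h.order_conj ht c, by rw [h.pt_conj ht, p]⟩

theorem A_mem_points : s.A ∈ s.points := Shape.mem_points.2 ⟨s.z, s.z_order, h.pt_z⟩

open scoped _root_.Classical in
theorem card_invols : (invols G).card = 15 * s.points.card := by
  have h1 := Finset.card_eq_sum_card_image s.pt (invols G)
  rw [Finset.sum_congr rfl (fun U hU => ?_), Finset.sum_const, smul_eq_mul, mul_comm] at h1
  · exact h1
  · obtain ⟨t, ht, rfl⟩ := Finset.mem_image.1 hU
    exact h.card_fibre (mem_invols.1 ht)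

open scoped _root_.Classical in
theorem card_group : Nat.card G = 15 * s.points.card * Nat.card ↥(centralizer ({s.z} : Set G)) := by
  rw [← h.card_invols]
  set C := centralizer ({s.z} : Set G)
  let f : G ⧸ C → {i : G // i ∈ invols G} := fun c =>
    ⟨c.out * s.z * c.out⁻¹, mem_invols.2 (h.order_conj s.z_order _)⟩
  have hf : Function.Bijective f := by
    constructor
    · intro c d e
      have e' : c.out * s.z * c.out⁻¹ = d.out * s.z * d.out⁻¹ := congrArg Subtype.val e
      rw [← QuotientGroup.out_eq' c, ← QuotientGroup.out_eq' d, QuotientGroup.eq, mem_centralizer_singleton_iff]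
      calc c.out⁻¹ * d.out * s.z = c.out⁻¹ * (d.out * s.z * d.out⁻¹) * d.out := by group
        _ = s.z * (c.out⁻¹ * d.out) := by rw [← e']; group
    · rintro ⟨i, hi⟩
      obtain ⟨g, hg⟩ := h.exists_conj (mem_invols.1 hi)
      refine ⟨QuotientGroup.mk g, Subtype.ext ?_⟩
      obtain ⟨r, hr2⟩ := QuotientGroup.mk_out_eq_mul C g
      show (QuotientGroup.mk g : G ⧸ C).out * s.z * _⁻¹ = i
      rw [hr2, ← hg]
      calc g * r * s.z * (g * r)⁻¹ = g * ((r : G) * s.z * (r : G)⁻¹) * g⁻¹ := by group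
        _ = g * s.z * g⁻¹ := by rw [mem_centralizer_singleton_iff.1 r.2, mul_inv_cancel_right]
  have h2 := card_mul_index C
  rw [index_eq_card, Nat.card_eq_of_bijective f hf, Nat.card_eq_fintype_card (α := {i : G // i ∈ invols G}),
    Fintype.card_coe] at h2
  rw [← h2, mul_comm]

open scoped _root_.Classical in
theorem count : s.points.card = 21 ∧ ∀ P ∈ s.points, P ≠ s.A → ∃ W, s.A ∈ s.pointsOn W ∧ P ∈ s.pointsOn W := by
  set LA := s.linesThrough s.A with hLA
  have hLAc : LA.card = 5 := by rw [hLA, ← h.pt_z]; exact h.card_linesThrough s.z_order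
  have hAon : ∀ W ∈ LA, s.A ∈ s.pointsOn W := fun W hW => by
    obtain ⟨t, ht, p, l⟩ := Shape.mem_linesThrough.1 hW
    exact Shape.mem_pointsOn.2 ⟨t, ht, l, p⟩
  have hPW : ∀ W ∈ LA, (s.pointsOn W).card = 5 := fun W hW => by
    obtain ⟨t, ht, -, rfl⟩ := Shape.mem_linesThrough.1 hW
    exact h.card_pointsOn ht
  set C₀ := LA.biUnion fun W => (s.pointsOn W).erase s.A with hC₀
  have hC₀card : C₀.card = 20 := by
    rw [hC₀, Finset.card_biUnion, Finset.sum_congr rfl (fun W hW => by
      rw [Finset.card_erase_of_mem (hAon W hW), hPW W hW]), Finset.sum_const, hLAc]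
    · rfl
    · intro W hW W' hW' hne
      refine Finset.disjoint_left.2 fun U hU hU' => hne ?_
      obtain ⟨hUA, hU⟩ := Finset.mem_erase.1 hU
      obtain ⟨-, hU'⟩ := Finset.mem_erase.1 hU'
      exact h.line_unique hUA hU (hAon W hW) hU' (hAon W' hW')
  have hsub : insert s.A C₀ ⊆ s.points := by
    refine Finset.insert_subset h.A_mem_points fun U hU => ?_
    obtain ⟨W, -, hU⟩ := Finset.mem_biUnion.1 hU
    exact h.pointsOn_subset W (Finset.mem_erase.1 hU).2
  have hAC : s.A ∉ C₀ := fun hm => by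
    obtain ⟨W, -, hU⟩ := Finset.mem_biUnion.1 hm
    exact (Finset.mem_erase.1 hU).1 rfl
  set D := s.points \ insert s.A C₀ with hD
  have hDcard : D.card + 21 = s.points.card := by
    have := Finset.card_sdiff_add_card_eq_card hsub
    rw [Finset.card_insert_of_notMem hAC, hC₀card] at this
    exact this
  set I := invols G
  set R₁ := LA.biUnion fun W => I.filter fun i => s.ln i = W
  set R₂ := LA.biUnion fun W => ((s.pointsOn W).erase s.A).biUnion fun U =>
    I.filter fun i => s.pt i = U ∧ ¬ s.ln i = W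
  set R₃ := D.biUnion fun P => I.filter fun i => cjg i s.A = P
  have hsplit : I ⊆ R₁ ∪ (R₂ ∪ R₃) := by
    intro i hi
    have hio := mem_invols.1 hi
    simp only [Finset.mem_union]
    have hP : cjg i s.A ∈ s.points := h.conj_points i h.A_mem_points
    by_cases hfix : cjg i s.A = s.A
    · left
      obtain ⟨a, ha, hap, hal⟩ := h.inc_of_normalizes s.z_order hio (h.pt_z.symm ▸ mem_normalizer_of_cjg hfix)
      exact Finset.mem_biUnion.2 ⟨s.ln i, Shape.mem_linesThrough.2 ⟨a, ha, hap.trans h.pt_z, hal⟩,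
        Finset.mem_filter.2 ⟨hi, rfl⟩⟩
    right
    by_cases hPC : cjg i s.A ∈ C₀
    · left
      obtain ⟨W, hW, hPW'⟩ := Finset.mem_biUnion.1 hPC
      have hPon := (Finset.mem_erase.1 hPW').2
      have hii : i * i = 1 := by rw [← pow_two, ← hio]; exact pow_orderOf_eq_one i
      have e : cjg i W = W := by
        refine h.line_unique hfix (h.conj_pointsOn i (hAon W hW)) ?_ hPon (hAon W hW)
        have := h.conj_pointsOn i hPon
        rwa [← cjg_mul, hii, cjg_one] at this
      obtain ⟨a, ha, hap, hal⟩ := Shape.mem_linesThrough.1 hW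
      have hiN : i ∈ normalizer (W : Set G) := mem_normalizer_of_cjg e
      obtain ⟨b, hb, hbp, hbl⟩ := h.mirror.inc_of_normalizes (t := a) ha hio (by rw [← hal] at hiN; exact hiN)
      rw [h.mirror_ln hb, h.mirror_ln hio] at hbl
      have hiU : s.pt i ∈ s.pointsOn W := Shape.mem_pointsOn.2 ⟨b, hb, hbp.trans hal, hbl⟩
      refine Finset.mem_biUnion.2 ⟨W, hW, Finset.mem_biUnion.2 ⟨s.pt i, Finset.mem_erase.2 ⟨fun e' => hfix ?_, hiU⟩,
        Finset.mem_filter.2 ⟨hi, rfl, fun e' => hfix ?_⟩⟩⟩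
      · exact cjg_eq_self (le_normalizer (e' ▸ h.mem_pt hio))
      · refine cjg_eq_self ?_
        have h3 := h.ln_le_normalizer_pt ha
        rw [hal, hap] at h3
        exact h3 (e' ▸ h.mem_ln hio)
    · right
      refine Finset.mem_biUnion.2 ⟨_, Finset.mem_sdiff.2 ⟨hP, ?_⟩, Finset.mem_filter.2 ⟨hi, rfl⟩⟩
      simp only [Finset.mem_insert, not_or]
      exact ⟨hfix, hPC⟩
  have h1 : R₁.card ≤ 5 * 15 := by
    refine (Finset.card_biUnion_le).trans ((Finset.sum_le_sum (g := fun _ => 15) fun W hW => le_of_eq ?_).trans (by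
      rw [Finset.sum_const, hLAc, smul_eq_mul]))
    obtain ⟨t, ht, -, rfl⟩ := Shape.mem_linesThrough.1 hW
    exact h.mirror.card_fibre ht
  have h2 : R₂.card ≤ 5 * (4 * 12) := by
    refine (Finset.card_biUnion_le).trans ((Finset.sum_le_sum (g := fun _ => 4 * 12) fun W hW => ?_).trans (by
      rw [Finset.sum_const, hLAc, smul_eq_mul]))
    refine (Finset.card_biUnion_le).trans ((Finset.sum_le_sum (g := fun _ => 12) fun U hU => le_of_eq ?_).trans (by
      rw [Finset.sum_const, Finset.card_erase_of_mem (hAon W hW), hPW W hW, smul_eq_mul]))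
    obtain ⟨t, ht, hl, rfl⟩ := Shape.mem_pointsOn.1 (Finset.mem_erase.1 hU).2
    have e := Finset.card_filter_add_card_filter_not (s := I.filter fun i => s.pt i = s.pt t) (fun i => s.ln i = W)
    rw [Finset.filter_filter, Finset.filter_filter, h.card_fibre ht, ← hl, h.card_flag ht, hl] at e
    omega
  have h3 : R₃.card ≤ D.card * 14 := by
    refine (Finset.card_biUnion_le).trans ((Finset.sum_le_sum (g := fun _ => 14) fun P hP => ?_).trans (by
      rw [Finset.sum_const, smul_eq_mul]))
    obtain ⟨hPp, hPC⟩ := Finset.mem_sdiff.1 hP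
    obtain ⟨j, hj, hjP⟩ := Shape.mem_points.1 hPp
    have hb := h.swap_le hj hjP fun a b ha hb hap hbp e => hPC (by
      by_cases hPA : P = s.A
      · exact Finset.mem_insert.2 (.inl hPA)
      · refine Finset.mem_insert.2 (.inr (Finset.mem_biUnion.2 ⟨s.ln a, Shape.mem_linesThrough.2 ⟨a, ha, hap, rfl⟩,
          Finset.mem_erase.2 ⟨hPA, Shape.mem_pointsOn.2 ⟨b, hb, e.symm, hbp⟩⟩⟩)))
    refine le_trans (le_of_eq ?_) hb
    letI := Fintype.ofFinite G
    rw [Nat.card_eq_fintype_card, Fintype.card_subtype]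
    congr 1
    ext i
    simp [I, mem_invols]
  have hI : I.card = 15 * s.points.card := h.card_invols
  have hle := (Finset.card_le_card hsplit).trans ((Finset.card_union_le _ _).trans
    (Nat.add_le_add_left (Finset.card_union_le _ _) _))
  have hn : s.points.card = 21 := by omega
  refine ⟨hn, fun P hP hPA => ?_⟩
  have hP' : P ∈ insert s.A C₀ := by
    by_contra hc
    have := Finset.card_pos.2 ⟨P, Finset.mem_sdiff.2 ⟨hP, hc⟩⟩
    rw [← hD] at this
    omega
  obtain ⟨W, hW, hP''⟩ := Finset.mem_biUnion.1 ((Finset.mem_insert.1 hP').resolve_left hPA)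
  exact ⟨W, hAon W hW, (Finset.mem_erase.1 hP'').2⟩

/-- The plane. -/
theorem exists_plane : ∃ (α : Type u) (_ : Fintype α) (_ : DecidableEq α) (B : Set (Finset α)) (ψ : G →* Equiv.Perm α),
    Fintype.card α = 21 ∧ Cfsg.IsSteinerSystem 2 5 B ∧ Function.Injective ψ ∧
      (∀ g, ψ g ∈ Cfsg.setSystemAut B) := by
  classical
  obtain ⟨hn, hcov⟩ := h.count
  let α := {U : Subgroup G // U ∈ s.points}
  letI : MulAction G α :=
    { smul := fun g U => ⟨cjg g U, h.conj_points g U.2⟩
      one_smul := fun U => Subtype.ext (cjg_one _)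
      mul_smul := fun g k U => Subtype.ext (cjg_mul g k _) }
  let line : Subgroup G → Finset α := fun W => Finset.univ.filter fun U => U.1 ∈ s.pointsOn W
  have hmem : ∀ W (U : α), U ∈ line W ↔ U.1 ∈ s.pointsOn W := fun W U => by simp [line]
  let B : Set (Finset α) := {b | ∃ t, orderOf t = 2 ∧ line (s.ln t) = b}
  have hlinecard : ∀ t, orderOf t = 2 → (line (s.ln t)).card = 5 := fun t ht => by
    rw [← h.card_pointsOn ht]
    refine Finset.card_bij (fun U _ => U.1) (fun U hU => (hmem _ U).1 hU) (fun a _ b _ e => Subtype.ext e)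
      fun U hU => ⟨⟨U, h.pointsOn_subset _ hU⟩, (hmem _ _).2 hU, rfl⟩
  have hB : Cfsg.IsSteinerSystem 2 5 B := by
    refine ⟨?_, ?_⟩
    · rintro b ⟨t, ht, rfl⟩; exact hlinecard t ht
    · intro p hp
      obtain ⟨U, V, hUV, rfl⟩ := Finset.card_eq_two.1 hp
      obtain ⟨j, hj, hjU⟩ := Shape.mem_points.1 U.2
      obtain ⟨c, hc⟩ := h.exists_conj hj
      have hcU : cjg c s.A = U.1 := by rw [← hjU, ← hc, h.pt_conj s.z_order, h.pt_z]
      have hV : cjg c⁻¹ V.1 ≠ s.A := fun e => hUV (Subtype.ext (by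
        rw [← hcU, ← e, ← cjg_mul, mul_inv_cancel, cjg_one]))
      obtain ⟨W, hWA, hWV⟩ := hcov _ (h.conj_points c⁻¹ V.2) hV
      have hU' := h.conj_pointsOn c hWA
      have hV' := h.conj_pointsOn c hWV
      rw [hcU] at hU'
      rw [← cjg_mul, mul_inv_cancel, cjg_one] at hV'
      obtain ⟨t, ht, htl, -⟩ := Shape.mem_pointsOn.1 hU'
      refine ⟨line (s.ln t), ⟨⟨t, ht, rfl⟩, ?_⟩, ?_⟩
      · intro x hx
        simp only [Finset.mem_insert, Finset.mem_singleton] at hx
        rw [hmem, htl]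
        rcases hx with rfl | rfl
        exacts [hU', hV']
      · rintro b ⟨⟨t', ht', rfl⟩, hsub⟩
        have h1 := (hmem _ U).1 (hsub (by simp))
        have h2 := (hmem _ V).1 (hsub (by simp))
        rw [htl, h.line_unique (fun e => hUV (Subtype.ext e)) h1 h2 hU' hV']
  refine ⟨α, inferInstance, inferInstance, B, MulAction.toPermHom G α, ?_, hB, ?_, fun g => ?_⟩
  · rw [Fintype.card_coe, hn]
  · refine (injective_iff_map_eq_one _).2 fun g hg => ?_
    set K := (MulAction.toPermHom G α).ker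
    have hKn : K.Normal := inferInstance
    have hKN : ∀ k ∈ K, ∀ U ∈ s.points, k ∈ normalizer (U : Set G) := fun k hk U hU => mem_normalizer_of_cjg
      (congrArg Subtype.val (DFunLike.congr_fun (MonoidHom.mem_ker.1 hk) (⟨U, hU⟩ : α)))
    have hodd : Odd (Nat.card K) := by
      refine Nat.not_even_iff_odd.1 fun he => ?_
      haveI : Fact (Nat.Prime 2) := ⟨Nat.prime_two⟩
      obtain ⟨⟨i, hiK⟩, hi⟩ := exists_prime_orderOf_dvd_card' (G := ↥K) 2 (even_iff_two_dvd.1 he)
      rw [Subgroup.orderOf_mk] at hi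
      have hall : s.points ⊆ s.pointsOn (s.ln i) := fun U hU => by
        obtain ⟨t, ht, rfl⟩ := Shape.mem_points.1 hU
        obtain ⟨a, ha, hap, hal⟩ := h.inc_of_normalizes ht hi (hKN i hiK _ hU)
        exact Shape.mem_pointsOn.2 ⟨a, ha, hal, hap⟩
      have := Finset.card_le_card hall
      rw [hn, h.card_pointsOn hi] at this
      omega
    have hK : K = ⊥ := le_bot_iff.1 (h.core ▸ Grp.le_pPrimeCore hKn (Nat.coprime_two_right.2 hodd))
    exact mem_bot.1 (hK ▸ (MonoidHom.mem_ker.2 hg : g ∈ K))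
  · refine Spor.SteinerAut.mem_aut.mpr fun b => ?_
    have key : ∀ (g : G) (b : Finset α), b ∈ B → b.image (MulAction.toPermHom G α g) ∈ B := by
      rintro g _ ⟨t, ht, rfl⟩
      refine ⟨g * t * g⁻¹, h.order_conj ht g, ?_⟩
      refine (Finset.eq_of_subset_of_card_le ?_ (le_of_eq ?_)).symm
      · intro U hU
        obtain ⟨V, hV, rfl⟩ := Finset.mem_image.1 hU
        rw [hmem, h.ln_conj ht]
        exact h.conj_pointsOn g ((hmem _ V).1 hV)
      · rw [hlinecard _ (h.order_conj ht g), Finset.card_image_of_injective _ (Equiv.injective _), hlinecard t ht]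
    exact ⟨fun hb => by
      have := key g⁻¹ _ hb
      rwa [Finset.image_image, ← Equiv.Perm.coe_mul, ← map_mul, inv_mul_cancel, map_one, Equiv.Perm.coe_one,
        Finset.image_id] at this, key g b⟩

end Moving

end Cfsg.Agent.Fus.L34T
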