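import Cfsg.Agent.Lib.Fus.L34Type.Central

/-!
# The incidence structure of the conjugates of `A` and of `B`

An involution lies in exactly one conjugate of `A` (its point) and one of `B` (its line).
-/

set_option autoImplicit false
set_option linter.unusedSectionVars false
set_option linter.style.haveILetI false

namespace Cfsg.Agent.Fus.L34T

open Subgroup Cfsg.Agent.Grp

universe u v

variable {G : Type u} [Group G] [Finite G] {F : Type v} [Field F] [Fintype F] [CharP F 2]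

/-- Conjugate subgroup. -/
abbrev cjg (g : G) (H : Subgroup G) : Subgroup G := H.map (MulAut.conj g).toMonoidHom

theorem mem_cjg {g : G} {H : Subgroup G} {x : G} : x ∈ cjg g H ↔ g⁻¹ * x * g ∈ H := by
  constructor
  · rintro ⟨y, hy, rfl⟩; simpa [mul_assoc] using hy
  · exact fun h => ⟨_, h, by simp [mul_assoc]⟩

theorem cjg_mul (g k : G) (H : Subgroup G) : cjg (g * k) H = cjg g (cjg k H) := by
  simp only [cjg, map_mul, Subgroup.map_map]; rfl

theorem cjg_one (H : Subgroup G) : cjg 1 H = H := by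
  ext x; simp [mem_cjg]

theorem cjg_eq_self {g : G} {H : Subgroup G} (h : g ∈ normalizer (H : Set G)) : cjg g H = H := by
  refine eq_of_le_of_card_ge ?_ (card_map_of_injective (MulAut.conj g).injective).symm.le
  rintro _ ⟨x, hx, rfl⟩
  exact mem_conj_normalizer h hx

theorem mem_normalizer_of_cjg {g : G} {H : Subgroup G} (h : cjg g H = H) : g ∈ normalizer (H : Set G) :=
  mem_normalizer_fintype fun x hx => by
    have : g * x * g⁻¹ ∈ cjg g H := ⟨x, hx, rfl⟩
    rw [h] at this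
    exact this

/-- The moving case. -/
structure Moving (s : Shape G F) : Prop where
  core : Cfsg.oddCore G = ⊥
  notA : ¬ s.Pres
  notB : ¬ s.mirror.Pres

variable {s : Shape G F}

/-- An involution. -/
def IsInvol (t : G) : Prop := orderOf t = 2

namespace Moving

variable (h : Moving s)
include h

theorem mirror : Moving s.mirror where
  core := h.core
  notA := h.notB
  notB := by
    intro hp
    apply h.notA
    have e : s.mirror.mirror = s := by
      cases s
      simp only [Shape.mirror, Shape.mk.injEq, true_and]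
      funext x y z
      congr 1
      rw [mul_comm y x, add_assoc, CharTwo.add_self_eq_zero, add_zero]
    rwa [e] at hp

theorem exists_conj {t : G} (ht : orderOf t = 2) : ∃ g : G, g * s.z * g⁻¹ = t := s.exists_conj_z h.notA h.notB ht

theorem normal_in_centralizer :
    (s.A.subgroupOf (centralizer ({s.z} : Set G))).Normal ∧
      ((s.S : Subgroup G).subgroupOf (centralizer ({s.z} : Set G))).Normal := by
  have hz := s.restrict_z_central
  have hO := s.oddCore_centralizer h.notA h.notB h.core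
  refine ⟨?_, ?_⟩
  · rw [← s.restrict_A _ s.S_le_centralizer_z]
    exact (s.restrict _ s.S_le_centralizer_z).normal_A_of_central hz hO
  · have := (s.restrict _ s.S_le_centralizer_z).normal_S_of_central hz hO
    exact this

theorem centralizer_le_normalizer_A : centralizer ({s.z} : Set G) ≤ normalizer (s.A : Set G) := by
  intro g hg
  haveI := h.normal_in_centralizer.1
  refine mem_normalizer_fintype fun a ha => ?_
  exact mem_subgroupOf.1 (Normal.conj_mem (H := s.A.subgroupOf (centralizer ({s.z} : Set G))) inferInstance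
    ⟨a, (s.A_le.trans s.S_le_centralizer_z) ha⟩ (mem_subgroupOf.2 ha) ⟨g, hg⟩)

theorem centralizer_le_normalizer_S : centralizer ({s.z} : Set G) ≤ normalizer ((s.S : Subgroup G) : Set G) := by
  intro g hg
  haveI := h.normal_in_centralizer.2
  refine mem_normalizer_fintype fun a ha => ?_
  exact mem_subgroupOf.1 (Normal.conj_mem (H := (s.S : Subgroup G).subgroupOf (centralizer ({s.z} : Set G))) inferInstance
    ⟨a, s.S_le_centralizer_z ha⟩ (mem_subgroupOf.2 ha) ⟨g, hg⟩)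

/-- A 2-subgroup of `C(z)` lies in `S`. -/
theorem le_S_of_centralizes {P : Subgroup G} (hP : IsPGroup 2 P) (hc : P ≤ centralizer ({s.z} : Set G)) :
    P ≤ (s.S : Subgroup G) := by
  haveI : Fact (Nat.Prime 2) := ⟨Nat.prime_two⟩
  have hsup := IsPGroup.to_sup_of_normal_right' hP s.S.isPGroup' (hc.trans h.centralizer_le_normalizer_S)
  exact le_sup_left.trans (s.S.is_maximal' hsup le_sup_right).le

/-- The only conjugate of `A` containing `z` is `A`. -/
theorem unique_A {g : G} (hz : s.z ∈ cjg g s.A) : cjg g s.A = s.A := by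
  refine (s.conj_A_cases fun a ha => ?_).resolve_right (s.not_conj g)
  refine h.le_S_of_centralizes (P := cjg g s.A) (s.A_pGroup.map _) (fun x hx => ?_) ⟨a, ha, rfl⟩
  obtain ⟨w, hw, e⟩ := hz
  obtain ⟨y, hy, rfl⟩ := hx
  refine mem_centralizer_singleton_iff.2 ?_
  rw [← e, ← map_mul, ← map_mul, s.A_comm hy hw]

theorem unique_pt {t : G} (ht : orderOf t = 2) {g k : G} (hg : t ∈ cjg g s.A) (hk : t ∈ cjg k s.A) :
    cjg g s.A = cjg k s.A := by
  obtain ⟨c, rfl⟩ := h.exists_conj ht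
  have key : ∀ g, c * s.z * c⁻¹ ∈ cjg g s.A → cjg g s.A = cjg c s.A := fun g hg => by
    have h1 : s.z ∈ cjg (c⁻¹ * g) s.A := by
      rw [mem_cjg] at hg ⊢
      simpa [mul_assoc] using hg
    conv_rhs => rw [← h.unique_A h1, ← cjg_mul, mul_inv_cancel_left]
  rw [key g hg, key k hk]

end Moving

/-- The point of an involution. -/
noncomputable def Shape.pt (s : Shape G F) (t : G) : Subgroup G :=
  Classical.epsilon fun U => ∃ g, cjg g s.A = U ∧ t ∈ U

/-- The line of an involution. -/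
noncomputable def Shape.ln (s : Shape G F) (t : G) : Subgroup G := s.mirror.pt t

namespace Moving

variable (h : Moving s)
include h

theorem pt_spec {t : G} (ht : orderOf t = 2) : ∃ g, cjg g s.A = s.pt t ∧ t ∈ s.pt t := by
  refine Classical.epsilon_spec (p := fun U => ∃ g, cjg g s.A = U ∧ t ∈ U) ?_
  obtain ⟨c, rfl⟩ := h.exists_conj ht
  exact ⟨_, c, rfl, ⟨s.z, s.z_mem_A, rfl⟩⟩

theorem mem_pt {t : G} (ht : orderOf t = 2) : t ∈ s.pt t := (h.pt_spec ht).elim fun _ hg => hg.2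

theorem mem_ln {t : G} (ht : orderOf t = 2) : t ∈ s.ln t := h.mirror.mem_pt ht

theorem pt_eq {t g : G} (ht : orderOf t = 2) (hg : t ∈ cjg g s.A) : s.pt t = cjg g s.A := by
  obtain ⟨k, hk, hk'⟩ := h.pt_spec ht
  rw [← hk] at hk' ⊢
  exact h.unique_pt ht hk' hg

theorem ln_eq {t g : G} (ht : orderOf t = 2) (hg : t ∈ cjg g s.B) : s.ln t = cjg g s.B := by
  rw [← s.mirror_A] at hg ⊢
  exact h.mirror.pt_eq ht hg

theorem pt_z : s.pt s.z = s.A := by
  rw [h.pt_eq s.z_order (g := 1) (by rw [cjg_one]; exact s.z_mem_A), cjg_one]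

theorem ln_z : s.ln s.z = s.B := by
  rw [h.ln_eq s.z_order (g := 1) (by rw [cjg_one]; exact s.z_mem_B), cjg_one]

theorem order_conj {t : G} (ht : orderOf t = 2) (g : G) : orderOf (g * t * g⁻¹) = 2 := by
  rw [← ht]; exact (MulAut.conj g).orderOf_eq t

theorem pt_conj {t : G} (ht : orderOf t = 2) (g : G) : s.pt (g * t * g⁻¹) = cjg g (s.pt t) := by
  obtain ⟨k, hk, hk'⟩ := h.pt_spec ht
  rw [← hk, ← cjg_mul]
  refine h.pt_eq (h.order_conj ht g) ?_
  rw [cjg_mul, hk]
  exact ⟨t, hk', rfl⟩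

theorem ln_conj {t : G} (ht : orderOf t = 2) (g : G) : s.ln (g * t * g⁻¹) = cjg g (s.ln t) :=
  h.mirror.pt_conj ht g

theorem card_pt {t : G} (ht : orderOf t = 2) : Nat.card ↥(s.pt t) = 16 := by
  obtain ⟨k, hk, -⟩ := h.pt_spec ht
  rw [← hk, card_map_of_injective (MulAut.conj k).injective, s.card_A]

theorem pt_eq_of_mem {t i : G} (ht : orderOf t = 2) (hi : orderOf i = 2) (hit : i ∈ s.pt t) : s.pt i = s.pt t := by
  obtain ⟨k, hk, -⟩ := h.pt_spec ht
  rw [← hk] at hit ⊢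
  exact h.pt_eq hi hit

theorem ln_eq_of_mem {t i : G} (ht : orderOf t = 2) (hi : orderOf i = 2) (hit : i ∈ s.ln t) : s.ln i = s.ln t :=
  h.mirror.pt_eq_of_mem ht hi hit

theorem ln_le_normalizer_pt {t : G} (ht : orderOf t = 2) : s.ln t ≤ normalizer (s.pt t : Set G) := by
  obtain ⟨c, rfl⟩ := h.exists_conj ht
  rw [h.ln_conj s.z_order, h.pt_conj s.z_order, h.pt_z, h.ln_z]
  rintro _ ⟨b, hb, rfl⟩
  refine mem_normalizer_of_cjg ?_
  rw [MulEquiv.coe_toMonoidHom, MulAut.conj_apply, cjg_mul, cjg_mul, ← cjg_mul c⁻¹ c, inv_mul_cancel, cjg_one,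
    cjg_eq_self (s.S_le_normalizer (s.B_le hb))]

theorem pt_le_normalizer_ln {t : G} (ht : orderOf t = 2) : s.pt t ≤ normalizer (s.ln t : Set G) := by
  have := h.mirror.ln_le_normalizer_pt ht
  have e : s.mirror.ln t = s.pt t := by
    obtain ⟨g, hg, hg'⟩ := h.pt_spec ht
    rw [← hg] at hg'
    rw [h.mirror.ln_eq ht (g := g) (by rw [s.mirror_B]; exact hg'), s.mirror_B, hg]
  rw [e] at this
  exact this

theorem mirror_ln {t : G} (ht : orderOf t = 2) : s.mirror.ln t = s.pt t := by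
  obtain ⟨g, hg, hg'⟩ := h.pt_spec ht
  rw [← hg] at hg'
  rw [h.mirror.ln_eq ht (g := g) (by rw [s.mirror_B]; exact hg'), s.mirror_B, hg]

/-- An involution normalising a point lies on a line through it. -/
theorem inc_of_normalizes {t i : G} (ht : orderOf t = 2) (hi : orderOf i = 2)
    (hn : i ∈ normalizer (s.pt t : Set G)) : ∃ j, orderOf j = 2 ∧ s.pt j = s.pt t ∧ s.ln j = s.ln i := by
  haveI : Fact (Nat.Prime 2) := ⟨Nat.prime_two⟩
  obtain ⟨g, hg, -⟩ := h.pt_spec ht
  have hp : IsPGroup 2 (zpowers i) := fun x => by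
    obtain ⟨n, hn⟩ := x.2
    refine ⟨1, Subtype.ext ?_⟩
    rw [pow_one, SubmonoidClass.coe_pow, ← hn, pow_two, ← (Commute.refl i).mul_zpow,
      show i * i = 1 by rw [← pow_two, ← hi]; exact pow_orderOf_eq_one i, one_zpow]
    rfl
  have hsup := IsPGroup.to_sup_of_normal_right' hp (hg ▸ s.A_pGroup.map _ : IsPGroup 2 ↥(s.pt t)) (zpowers_le.2 hn)
  obtain ⟨k, hk⟩ := s.exists_conj_S hsup
  have hA : cjg (k * g) s.A = s.A := by
    refine (s.conj_A_cases fun a ha => ?_).resolve_right (s.not_conj _)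
    have := hk (g * a * g⁻¹) (mem_sup_right (hg ▸ ⟨a, ha, rfl⟩))
    simpa [mul_assoc] using this
  have hkt : cjg k⁻¹ s.A = s.pt t := by
    conv_lhs => rw [← hA, cjg_mul, ← cjg_mul, inv_mul_cancel, cjg_one]
    exact hg
  have hi2 : k * i * k⁻¹ * (k * i * k⁻¹) = 1 := by
    rw [← pow_two, ← h.order_conj hi k]; exact pow_orderOf_eq_one _
  have hz' := h.order_conj s.z_order k⁻¹
  rcases s.mem_A_or_B (hk i (mem_sup_left (mem_zpowers i))) hi2 with ha | hb
  · refine ⟨i, hi, ?_, rfl⟩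
    rw [h.pt_eq hi (g := k⁻¹) (mem_cjg.2 (by simpa using ha)), hkt]
  · refine ⟨k⁻¹ * s.z * k⁻¹⁻¹, hz', ?_, ?_⟩
    · rw [h.pt_conj s.z_order, h.pt_z, hkt]
    · rw [h.ln_conj s.z_order, h.ln_z, h.ln_eq hi (g := k⁻¹) (mem_cjg.2 (by simpa using hb))]

/-- Two points lie on at most one line. -/
theorem unique_line {t₁ t₂ t₃ t₄ : G} (h₁ : orderOf t₁ = 2) (h₂ : orderOf t₂ = 2) (h₃ : orderOf t₃ = 2)
    (h₄ : orderOf t₄ = 2) (e12 : s.pt t₁ = s.pt t₂) (e34 : s.pt t₃ = s.pt t₄) (e13 : s.ln t₁ = s.ln t₃)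
    (e24 : s.ln t₂ = s.ln t₄) (hne : s.ln t₁ ≠ s.ln t₂) : s.pt t₁ = s.pt t₃ := by
  haveI : Fact (Nat.Prime 2) := ⟨Nat.prime_two⟩
  classical
  obtain ⟨g, hg, -⟩ := h.pt_spec h₁
  obtain ⟨g', hg', -⟩ := h.pt_spec h₃
  set U := s.pt t₁
  set V := s.pt t₃ with hV
  have n1 : s.ln t₁ ≤ normalizer (V : Set G) := e13 ▸ h.ln_le_normalizer_pt h₃
  have n2 : s.ln t₂ ≤ normalizer (V : Set G) := by rw [e34, e24]; exact h.ln_le_normalizer_pt h₄
  have hcap : ∀ t, orderOf t = 2 → 4 ≤ Nat.card ↥(s.pt t ⊓ s.ln t) := by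
    intro t ht
    obtain ⟨c, rfl⟩ := h.exists_conj ht
    rw [h.pt_conj s.z_order, h.ln_conj s.z_order, h.pt_z, h.ln_z, ← Subgroup.map_inf _ _ _ (MulAut.conj c).injective,
      card_map_of_injective (MulAut.conj c).injective]
    refine le_trans (le_of_eq ?_) (Nat.card_le_card_of_injective
      (fun a : F => (⟨s.e 0 0 a, s.e_mem_A.2 rfl, s.e_mem_B.2 rfl⟩ : ↥(s.A ⊓ s.B)))
      fun a b e => (s.e_inj _ _ _ _ _ _ (congrArg Subtype.val e)).2.2)
    rw [Nat.card_eq_fintype_card, s.hF]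
  set W₁ := U ⊓ s.ln t₁
  set W₂ := U ⊓ s.ln t₂
  have hd : W₁ ⊓ W₂ = ⊥ := by
    rw [eq_bot_iff]
    rintro x ⟨hx1, hx2⟩
    by_contra hx
    have hx1' : x ≠ 1 := fun e => hx (mem_bot.2 e)
    have hxo : orderOf x = 2 := by
      obtain ⟨a, ha, rfl⟩ : x ∈ cjg g s.A := hg.symm ▸ hx1.1
      refine orderOf_eq_prime ?_ hx1'
      rw [pow_two, ← map_mul, s.A_sq ha, map_one]
    exact hne ((h.ln_eq_of_mem h₁ hxo hx1.2).symm.trans (h.ln_eq_of_mem h₂ hxo hx2.2))
  have hU : U ≤ normalizer (V : Set G) := by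
    have hle : W₁ ⊔ W₂ ≤ U := sup_le inf_le_left inf_le_left
    have hcard : Nat.card U ≤ Nat.card ↥(W₁ ⊔ W₂) := by
      rw [h.card_pt h₁]
      have hn : W₁ ≤ normalizer (W₂ : Set G) := by
        refine fun x hx => centralizer_le_normalizer _ (mem_centralizer_iff.2 fun y hy => ?_)
        obtain ⟨a, ha, rfl⟩ : x ∈ cjg g s.A := hg.symm ▸ hx.1
        obtain ⟨b, hb, rfl⟩ : y ∈ cjg g s.A := hg.symm ▸ (hy : y ∈ W₂).1
        rw [← map_mul, ← map_mul, s.A_comm hb ha]
      have := card_sup_mul_card_inf (H := W₁) (N := W₂) hn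
      rw [hd, Subgroup.card_bot, mul_one] at this
      rw [this]
      calc 16 = 4 * 4 := rfl
        _ ≤ _ := Nat.mul_le_mul (hcap t₁ h₁) (by
          have e : W₂ = s.pt t₂ ⊓ s.ln t₂ := by rw [← e12]
          rw [e]; exact hcap t₂ h₂)
    rw [← eq_of_le_of_card_ge hle hcard]
    exact sup_le (inf_le_right.trans n1) (inf_le_right.trans n2)
  have hsup := IsPGroup.to_sup_of_normal_right' (hg ▸ s.A_pGroup.map _ : IsPGroup 2 ↥U)
    (hg' ▸ s.A_pGroup.map _ : IsPGroup 2 ↥V) hU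
  obtain ⟨k, hk⟩ := s.exists_conj_S hsup
  have hmove : ∀ x : G, (∀ a ∈ s.A, x * a * x⁻¹ ∈ U ⊔ V) → cjg x s.A = cjg k⁻¹ s.A := fun x hx => by
    have hA : cjg (k * x) s.A = s.A := by
      refine (s.conj_A_cases fun a ha => ?_).resolve_right (s.not_conj _)
      have := hk _ (hx a ha)
      simpa [mul_assoc] using this
    conv_rhs => rw [← hA, cjg_mul, ← cjg_mul k⁻¹ k, inv_mul_cancel, cjg_one]
  rw [← hg, ← hg', hmove g fun a ha => mem_sup_left (hg ▸ ⟨a, ha, rfl⟩),
    hmove g' fun a ha => mem_sup_right (hg' ▸ ⟨a, ha, rfl⟩)]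

end Moving

end Cfsg.Agent.Fus.L34T
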