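import Cfsg.Agent.Lib.Fus.L34Type.Plane

/-!
# Groups of additive permutations of the plane with Sylow 2-subgroup `up F`

Such a group is, after conjugation by a shear, semilinear with trivial field part, that is linear; unless it
fixes the line `0 × F` it is transitive on nonzero vectors.
-/

set_option autoImplicit false
set_option linter.unusedSectionVars false

namespace Cfsg.Agent.Fus.L34T

open Subgroup

variable {F : Type*} [Field F] [Fintype F] [CharP F 2]

/-- The hypotheses on the group of permutations. -/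
structure PlaneGrp (X : Subgroup (Equiv.Perm (F × F))) : Prop where
  card_field : Fintype.card F = 4
  add : ∀ g ∈ X, Additive' g
  mem_up : ∀ y, up y ∈ X
  card_le : ∀ P : Subgroup (Equiv.Perm (F × F)), P ≤ X → IsPGroup 2 P → Nat.card P ≤ 4

/-- The group of the `up y`. -/
def upG : Subgroup (Equiv.Perm (F × F)) where
  carrier := Set.range up
  one_mem' := ⟨0, up_zero⟩
  mul_mem' := by rintro _ _ ⟨a, rfl⟩ ⟨b, rfl⟩; exact ⟨a + b, (up_mul a b).symm⟩
  inv_mem' := by
    rintro _ ⟨a, rfl⟩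
    refine ⟨-a, (inv_eq_of_mul_eq_one_right ?_).symm⟩
    rw [up_mul, add_neg_cancel, up_zero]

theorem mem_upG {g : Equiv.Perm (F × F)} : g ∈ (upG : Subgroup (Equiv.Perm (F × F))) ↔ ∃ y, up y = g := Iff.rfl

theorem card_upG : Nat.card (upG : Subgroup (Equiv.Perm (F × F))) = Nat.card F :=
  (Nat.card_congr (Equiv.ofInjective _ up_injective)).symm

theorem fix_up {y : F} (hy : y ≠ 0) (v : F × F) : up y v = v ↔ v.1 = 0 := by
  simp [Prod.ext_iff, hy]

theorem Additive'.map_zero {M : Type*} [AddGroup M] {g : Equiv.Perm M} (h : Additive' g) : g 0 = 0 := by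
  simpa using h 0 0

theorem Additive'.mul {M : Type*} [AddGroup M] {g k : Equiv.Perm M} (hg : Additive' g) (hk : Additive' k) :
    Additive' (g * k) := fun v w => by
  simp only [Equiv.Perm.coe_mul, Function.comp_apply, hk v w, hg (k v) (k w)]

theorem Additive'.inv {M : Type*} [AddGroup M] {g : Equiv.Perm M} (hg : Additive' g) : Additive' g⁻¹ := fun v w => by
  apply g.injective
  rw [hg]
  simp

theorem additive_shear {h : F → F} (hh : ∀ a b, h (a + b) = h a + h b) : Additive' (shear h) := fun v w => by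
  ext <;> simp [hh]; ring

theorem shear_comm_up {h : F → F} (y : F) : shear h * up y = up y * shear h := Equiv.ext fun v => by
  ext <;> simp; ring

theorem shear_inv (h : F → F) : (shear h)⁻¹ = shear h := Equiv.ext fun v => by
  rw [shear_inv_apply, shear_apply, CharTwo.sub_eq_add]

theorem up_inv (y : F) : (up y)⁻¹ = up y :=
  inv_eq_of_mul_eq_one_right (by rw [up_mul, CharTwo.add_self_eq_zero, up_zero])

theorem low_inv (s : F) : (low s)⁻¹ = low s :=
  inv_eq_of_mul_eq_one_right (by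
    rw [low_mul, CharTwo.add_self_eq_zero]
    exact Equiv.ext fun v => by simp)

/-- A semilinear permutation for the squaring automorphism. -/
def Semi (g : Equiv.Perm (F × F)) : Prop := ∀ (c : F) (v : F × F), g (c • v) = c ^ 2 • g v

theorem span_pair (hF : Fintype.card F = 4) {a b : F} (ha : a ≠ 0) (hb : b ≠ 0) (hab : a ≠ b) (x : F) :
    x = 0 ∨ x = a ∨ x = b ∨ x = a + b := by
  have h0 : b / a ≠ 0 := div_ne_zero hb ha
  have h1 : b / a ≠ 1 := fun e => hab ((div_eq_one_iff_eq ha).1 e).symm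
  rcases cases_four hF (x := x / a) h0 h1 with e | e | e | e
  · left; rwa [div_eq_zero_iff, or_iff_left ha] at e
  · right; left; exact (div_eq_one_iff_eq ha).1 e
  · right; right; left; rwa [div_left_inj' ha] at e
  · right; right; right
    rw [div_add_one ha, div_left_inj' ha] at e
    rw [e, add_comm]

namespace PlaneGrp

variable {X : Subgroup (Equiv.Perm (F × F))}

theorem upG_le (hX : PlaneGrp X) : upG ≤ X := by rintro _ ⟨y, rfl⟩; exact hX.mem_up y

theorem card_upG_eq (hX : PlaneGrp X) : Nat.card (upG : Subgroup (Equiv.Perm (F × F))) = 4 := by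
  rw [card_upG, Nat.card_eq_fintype_card, hX.card_field]

theorem upG_pGroup (hX : PlaneGrp X) : IsPGroup 2 (upG : Subgroup (Equiv.Perm (F × F))) := fun g => by
  obtain ⟨y, hy⟩ := mem_upG.1 g.2
  exact ⟨1, Subtype.ext (by
    rw [pow_one, SubmonoidClass.coe_pow, pow_two, ← hy, up_mul, CharTwo.add_self_eq_zero, up_zero]; rfl)⟩

theorem pre_subgroupOf (hX : PlaneGrp X) (S : Sylow 2 ↥X) (hle : upG.subgroupOf X ≤ (S : Subgroup ↥X)) :
    (S : Subgroup ↥X) = upG.subgroupOf X := by
  refine (eq_of_le_of_card_ge hle ?_).symm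
  have h1 := hX.card_le ((S : Subgroup ↥X).map X.subtype) (map_subtype_le _) (S.isPGroup'.map _)
  rw [card_map_of_injective X.subtype_injective] at h1
  rw [Nat.card_congr (subgroupOfEquivOfLe hX.upG_le).toEquiv, hX.card_upG_eq]
  exact h1

/-- A 2-subgroup of `X` is conjugate into `upG`. -/
theorem exists_conj (hX : PlaneGrp X) (P : Subgroup (Equiv.Perm (F × F))) (hP : P ≤ X) (hP2 : IsPGroup 2 P) :
    ∃ k ∈ X, ∀ g ∈ P, k * g * k⁻¹ ∈ (upG : Subgroup (Equiv.Perm (F × F))) := by
  haveI : Fact (Nat.Prime 2) := ⟨Nat.prime_two⟩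
  obtain ⟨S, hS⟩ := (hX.upG_pGroup.comap_of_injective X.subtype X.subtype_injective).exists_le_sylow
  obtain ⟨S', hS'⟩ := (hP2.comap_of_injective X.subtype X.subtype_injective).exists_le_sylow
  obtain ⟨k, hk⟩ := MulAction.exists_smul_eq ↥X S' S
  refine ⟨k, k.2, fun g hg => ?_⟩
  have h1 : k * ⟨g, hP hg⟩ * k⁻¹ ∈ (S : Subgroup ↥X) := by
    rw [← hk, Sylow.coe_subgroup_smul]
    exact ⟨⟨g, hP hg⟩, hS' hg, rfl⟩
  rw [hX.pre_subgroupOf S hS] at h1
  exact mem_subgroupOf.1 h1

theorem sq_eq_one (hX : PlaneGrp X) {g : Equiv.Perm (F × F)} (hg : g ∈ X) {n : ℕ} (hn : g ^ (2 ^ n) = 1) :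
    g * g = 1 := by
  obtain ⟨k, -, hk⟩ := hX.exists_conj (zpowers g) (zpowers_le.2 hg) (fun x => by
    obtain ⟨i, hi⟩ := x.2
    refine ⟨n, Subtype.ext ?_⟩
    rw [SubmonoidClass.coe_pow, ← hi, ← zpow_natCast, ← zpow_mul, mul_comm, zpow_mul, zpow_natCast, hn, one_zpow]
    rfl)
  obtain ⟨y, hy⟩ := mem_upG.1 (hk g (mem_zpowers g))
  have : k * (g * g) * k⁻¹ = 1 := by
    rw [show k * (g * g) * k⁻¹ = k * g * k⁻¹ * (k * g * k⁻¹) by group, ← hy, up_mul, CharTwo.add_self_eq_zero, up_zero]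
  simpa using this

theorem conj_mem (_hX : PlaneGrp X) {g k : Equiv.Perm (F × F)} (hg : g ∈ X) (hk : k ∈ X) : g * k * g⁻¹ ∈ X :=
  mul_mem (mul_mem hg hk) (inv_mem hg)

/-- Commuting involutions of `X` have the same fixed points. -/
theorem fix_eq_of_comm (hX : PlaneGrp X) {v w : Equiv.Perm (F × F)} (hv : v ∈ X) (hw : w ∈ X) (hv2 : v * v = 1)
    (hw2 : w * w = 1) (hv1 : v ≠ 1) (hw1 : w ≠ 1) (hc : Commute v w) (m : F × F) : v m = m ↔ w m = m := by
  have hp : ∀ u : Equiv.Perm (F × F), u * u = 1 → IsPGroup 2 (zpowers u) := fun u hu x => by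
    obtain ⟨i, hi⟩ := x.2
    refine ⟨1, Subtype.ext ?_⟩
    rw [pow_one, SubmonoidClass.coe_pow, ← hi, pow_two, ← (Commute.refl u).mul_zpow, hu, one_zpow]
    rfl
  have hn : zpowers v ≤ normalizer ((zpowers w : Subgroup (Equiv.Perm (F × F))) : Set (Equiv.Perm (F × F))) := by
    refine zpowers_le.2 (centralizer_le_normalizer _ ?_)
    rw [mem_centralizer_iff]
    rintro _ ⟨i, rfl⟩
    exact ((hc.zpow_right i).eq).symm
  have hP := IsPGroup.to_sup_of_normal_right' (hp v hv2) (hp w hw2) hn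
  obtain ⟨k, -, hk⟩ := hX.exists_conj _ (sup_le (zpowers_le.2 hv) (zpowers_le.2 hw)) hP
  obtain ⟨a, ha⟩ := mem_upG.1 (hk v (mem_sup_left (mem_zpowers v)))
  obtain ⟨b, hb⟩ := mem_upG.1 (hk w (mem_sup_right (mem_zpowers w)))
  have key : ∀ (u : Equiv.Perm (F × F)) (c : F), u ≠ 1 → up c = k * u * k⁻¹ → (u m = m ↔ (k m).1 = 0) := by
    intro u c hu hcu
    have hc0 : c ≠ 0 := fun e => hu (by simpa [e, up_zero, eq_comm] using hcu)
    rw [← fix_up hc0, hcu]
    simp
  exact (key v a hv1 ha).trans (key w b hw1 hb).symm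

/-- An element fixing `0 × F` and the first coordinate is some `up y`. -/
theorem eq_up_of_fix (hX : PlaneGrp X) {g : Equiv.Perm (F × F)} (hg : g ∈ X)
    (h0 : ∀ v : F × F, v.1 = 0 → g v = v) (h1 : ∀ v, (g v).1 = v.1) : ∃ y, up y = g := by
  let W : Subgroup (Equiv.Perm (F × F)) :=
    { carrier := {g | g ∈ X ∧ (∀ v : F × F, v.1 = 0 → g v = v) ∧ ∀ v, (g v).1 = v.1}
      one_mem' := ⟨one_mem _, fun _ _ => rfl, fun _ => rfl⟩
      mul_mem' := fun {a b} ha hb => ⟨mul_mem ha.1 hb.1, fun v hv => by simp [hb.2.1 v hv, ha.2.1 v hv],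
        fun v => by simp [ha.2.2, hb.2.2]⟩
      inv_mem' := fun {a} ha => ⟨inv_mem ha.1, fun v hv => by
          conv_lhs => rw [← ha.2.1 v hv]
          simp, fun v => by rw [← ha.2.2 (a⁻¹ v)]; simp⟩ }
  have hsq : ∀ u ∈ W, u * u = 1 := fun u hu => Equiv.ext fun v => by
    have hd : (u v - v).1 = 0 := by simp [hu.2.2]
    have e : u v = v + (u v - v) := by abel
    rw [Equiv.Perm.coe_mul, Function.comp_apply, Equiv.Perm.coe_one, id]
    conv_lhs => rw [e, hX.add u hu.1, hu.2.1 _ hd, e, add_assoc]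
    simp [← two_smul F, CharTwo.two_eq_zero]
  have hp : IsPGroup 2 W := fun x => ⟨1, Subtype.ext (by
    rw [pow_one, SubmonoidClass.coe_pow, pow_two]; exact hsq x x.2)⟩
  have hle : (upG : Subgroup (Equiv.Perm (F × F))) ≤ W := by
    rintro _ ⟨y, rfl⟩
    exact ⟨hX.mem_up y, fun v hv => by ext <;> simp [hv], fun v => rfl⟩
  have heq := eq_of_le_of_card_ge hle (by rw [hX.card_upG_eq]; exact hX.card_le W (fun x hx => hx.1) hp)
  exact mem_upG.1 (heq ▸ (⟨hg, h0, h1⟩ : g ∈ W))

/-- An element preserving `0 × F` preserves it both ways. -/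
theorem pres_iff (hX : PlaneGrp X) {k : Equiv.Perm (F × F)} (hk : k ∈ X) (h : ∀ z, (k (0, z)).1 = 0) (v : F × F) :
    (k v).1 = 0 ↔ v.1 = 0 := by
  have hinj : Function.Injective fun z => (k (0, z)).2 := fun a b e =>
    congrArg Prod.snd (k.injective (Prod.ext ((h a).trans (h b).symm) e : k (0, a) = k (0, b)))
  refine ⟨fun hv => ?_, fun hv => ?_⟩
  · obtain ⟨z, hz⟩ := (Finite.injective_iff_surjective.1 hinj) (k v).2
    have e : k (0, z) = k v := Prod.ext ((h z).trans hv.symm) hz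
    rw [← k.injective e]
  · obtain ⟨x, z⟩ := v
    subst hv
    exact h z

/-- An element preserving `0 × F` normalises `upG`. -/
theorem conj_up (hX : PlaneGrp X) {k : Equiv.Perm (F × F)} (hk : k ∈ X) (h : ∀ z, (k (0, z)).1 = 0) (y : F) :
    ∃ y', up y' = k * up y * k⁻¹ := by
  refine hX.eq_up_of_fix (hX.conj_mem hk (hX.mem_up y)) (fun v hv => ?_) fun v => ?_
  · obtain ⟨m, rfl⟩ := k.surjective v
    have hm := (hX.pres_iff hk h m).1 hv
    have e : up y m = m := by ext <;> simp [hm]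
    simp only [Equiv.Perm.coe_mul, Function.comp_apply, Equiv.Perm.coe_inv, Equiv.symm_apply_apply, e]
  · obtain ⟨m, rfl⟩ := k.surjective v
    have e : up y m = m + (0, y * m.1) := by ext <;> simp
    simp only [Equiv.Perm.coe_mul, Function.comp_apply, Equiv.Perm.coe_inv, Equiv.symm_apply_apply, e]
    rw [hX.add k hk, Prod.fst_add, h, add_zero]

/-- An involution preserving `0 × F` lies in `upG`. -/
theorem mem_upG_of_sq (hX : PlaneGrp X) {k : Equiv.Perm (F × F)} (hk : k ∈ X) (h : ∀ z, (k (0, z)).1 = 0)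
    (h2 : k * k = 1) : ∃ y, up y = k := by
  have hp : IsPGroup 2 (zpowers k) := fun x => by
    obtain ⟨i, hi⟩ := x.2
    refine ⟨1, Subtype.ext ?_⟩
    rw [pow_one, SubmonoidClass.coe_pow, ← hi, pow_two, ← (Commute.refl k).mul_zpow, h2, one_zpow]
    rfl
  have hki : k⁻¹ = k := inv_eq_of_mul_eq_one_right h2
  have hn : zpowers k ≤ normalizer ((upG : Subgroup (Equiv.Perm (F × F))) : Set (Equiv.Perm (F × F))) := by
    refine zpowers_le.2 (mem_normalizer_iff.2 fun g => ⟨fun hg => ?_, fun hg => ?_⟩)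
    · obtain ⟨y, rfl⟩ := mem_upG.1 hg
      exact mem_upG.2 (hX.conj_up hk h y)
    · obtain ⟨y, hy⟩ := mem_upG.1 hg
      obtain ⟨y', hy'⟩ := hX.conj_up hk h y
      rw [hy, hki, ← mul_assoc, ← mul_assoc, h2, one_mul, mul_assoc, h2, mul_one] at hy'
      exact mem_upG.2 ⟨y', hy'⟩
  have hP := IsPGroup.to_sup_of_normal_right' hp hX.upG_pGroup hn
  have hcard := hX.card_le _ (sup_le (zpowers_le.2 hk) hX.upG_le) hP
  have heq := eq_of_le_of_card_ge (le_sup_right : upG ≤ zpowers k ⊔ upG) (by rw [hX.card_upG_eq]; exact hcard)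
  exact mem_upG.1 (heq ▸ mem_sup_left (mem_zpowers k))

/-- The image of `0 × F` is `0 × F` or a complement to it. -/
theorem disjoint (hX : PlaneGrp X) {k : Equiv.Perm (F × F)} (hk : k ∈ X) {z : F} (hz : z ≠ 0)
    (h : (k (0, z)).1 = 0) : ∀ t, (k (0, t)).1 = 0 := by
  by_contra hne
  push Not at hne
  obtain ⟨t, ht⟩ := hne
  have ha : (k (0, z)).2 ≠ 0 := fun e => hz (by
    simpa using k.injective ((Prod.ext h e : k (0, z) = 0).trans (hX.add k hk).map_zero.symm))
  have ht0 : t ≠ 0 := fun e => ht (by rw [e, show ((0 : F), (0 : F)) = 0 from rfl, (hX.add k hk).map_zero]; rfl)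
  have hzt : z ≠ t := fun e => ht (e ▸ h)
  set y := (k (0, z)).2 / (k (0, t)).1
  have hy : y ≠ 0 := div_ne_zero ha ht
  -- `up y` preserves the image of `0 × F`
  have hkey : ∀ s, ∃ s', up y (k (0, s)) = k (0, s') := by
    have e1 : up y (k (0, z)) = k (0, z) := by ext <;> simp [h]
    have e2 : up y (k (0, t)) = k (0, t) + k (0, z) := by
      ext <;> simp [h, y, div_mul_cancel₀ _ ht]
    have e0 : ((0 : F), z + t) = ((0 : F), z) + ((0 : F), t) := by ext <;> simp
    intro s
    rcases span_pair hX.card_field hz ht0 hzt s with rfl | rfl | rfl | rfl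
    · exact ⟨0, by rw [show ((0 : F), (0 : F)) = 0 from rfl, (hX.add k hk).map_zero,
        (hX.add _ (hX.mem_up y)).map_zero]⟩
    · exact ⟨_, e1⟩
    · exact ⟨s + z, by rw [e2, ← hX.add k hk]; simp⟩
    · refine ⟨t, ?_⟩
      rw [e0, hX.add k hk, hX.add _ (hX.mem_up y), e1, e2]
      rw [add_comm, add_assoc, show k (0, z) + k (0, z) = 0 by ext <;> simp [CharTwo.add_self_eq_zero], add_zero]
  have hv : k⁻¹ * up y * k ∈ X := mul_mem (mul_mem (inv_mem hk) (hX.mem_up y)) hk
  obtain ⟨y', hy'⟩ := hX.mem_upG_of_sq hv (fun s => by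
    obtain ⟨s', hs'⟩ := hkey s
    simp [Equiv.Perm.coe_mul, Function.comp_apply, hs'])
    (by
      rw [show k⁻¹ * up y * k * (k⁻¹ * up y * k) = k⁻¹ * (up y * up y) * k by group, up_mul,
        CharTwo.add_self_eq_zero, up_zero]
      simp)
  have e := congrArg (fun g : Equiv.Perm (F × F) => k (g (0, t))) hy'
  simp only [Equiv.Perm.coe_mul, Function.comp_apply, Equiv.Perm.coe_inv, Equiv.apply_symm_apply, up_apply,
    mul_zero, add_zero] at e
  exact ht (by simpa [hy] using congrArg Prod.snd e)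

/-- Conjugating by an additive map commuting with `upG`. -/
theorem conj (hX : PlaneGrp X) {u : Equiv.Perm (F × F)} (hu : Additive' u) (hc : ∀ y, u * up y = up y * u) :
    PlaneGrp (X.map (MulAut.conj u).toMonoidHom) where
  card_field := hX.card_field
  add := by
    rintro _ ⟨g, hg, rfl⟩
    exact (hu.mul (hX.add g hg)).mul hu.inv
  mem_up y := ⟨up y, hX.mem_up y, by simp [hc y]⟩
  card_le P hP hP2 := by
    have h1 := hX.card_le (P.map (MulAut.conj u⁻¹).toMonoidHom) (by
      rintro _ ⟨g, hg, rfl⟩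
      obtain ⟨g', hg', rfl⟩ := hP hg
      simpa [mul_assoc] using hg') (hP2.map _)
    rwa [card_map_of_injective (MulEquiv.injective _)] at h1

end PlaneGrp

end Cfsg.Agent.Fus.L34T
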