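import Mathlib
import Cfsg.Agent.Lib.Spor.M21Psl

/-!
# `PGL₃(4)` has index at most two among the collineations of the plane
-/

set_option autoImplicit false
set_option linter.unusedSectionVars false
set_option linter.style.haveILetI false

namespace Cfsg.Agent.Fus.L34T

open Cfsg Finset Cfsg.Agent.Spor
open scoped LinearAlgebra.Projectivization

universe v

variable {F : Type v} [Field F] [Fintype F]

theorem scalar_of_fix {g : GL (Fin 3) F}
    (h : ∀ v : Fin 3 → F, v ≠ 0 → ∃ c : F, (g : Matrix (Fin 3) (Fin 3) F).mulVec v = c • v) :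
    g ∈ Subgroup.center (GL (Fin 3) F) := by
  classical
  rw [Matrix.GeneralLinearGroup.mem_center_iff_val_mem_range_scalar]
  choose c hc using fun j : Fin 3 => h (Pi.single j 1) (by simp)
  have hent : ∀ i j, (g : Matrix (Fin 3) (Fin 3) F) i j = if i = j then c j else 0 := fun i j => by
    have := congrFun (hc j) i
    rw [Matrix.mulVec_single_one] at this
    simp only [Matrix.col_apply, Pi.smul_apply, Pi.single_apply, smul_eq_mul, mul_ite, mul_one, mul_zero] at this
    exact this
  have heq : ∀ i j, c i = c j := fun i j => by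
    rcases eq_or_ne i j with rfl | hij
    · rfl
    obtain ⟨d, hd⟩ := h (Pi.single i 1 + Pi.single j 1) (fun e => by
      have := congrFun e i
      simp [Pi.single_apply, hij] at this)
    rw [Matrix.mulVec_add, hc i, hc j] at hd
    have h1 := congrFun hd i
    have h2 := congrFun hd j
    simp [Pi.single_apply, hij, hij.symm] at h1 h2
    rw [h1, h2]
  refine ⟨c 0, ?_⟩
  ext i j
  rw [hent, Matrix.scalar_apply, Matrix.diagonal_apply]
  split_ifs with e
  · rw [heq 0 j]
  · rfl

theorem natCard_pgl (hF : Fintype.card F = 4) :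
    Nat.card (GL (Fin 3) F ⧸ Subgroup.center (GL (Fin 3) F)) = 60480 := by
  classical
  have h1 : Nat.card (GL (Fin 3) F) = 181440 := by
    rw [Matrix.card_GL_field, hF, Fin.prod_univ_three]
    norm_num
  have h2 : Nat.card ↥(Subgroup.center (GL (Fin 3) F)) = 3 := by
    rw [Matrix.GeneralLinearGroup.center_eq_range_scalar]
    have hinj : Function.Injective (Matrix.GeneralLinearGroup.scalar (Fin 3) : Fˣ →* GL (Fin 3) F) := fun a b e => by
      have := congrArg (fun g : GL (Fin 3) F => (g : Matrix (Fin 3) (Fin 3) F) 0 0) e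
      refine Units.ext ?_
      simpa using this
    rw [← Nat.card_congr (MonoidHom.ofInjective hinj).toEquiv, Nat.card_units, Nat.card_eq_fintype_card, hF]
  have := Subgroup.card_eq_card_quotient_mul_card_subgroup (Subgroup.center (GL (Fin 3) F))
  rw [h1, h2] at this
  omega

theorem exists_proj (hF : Fintype.card F = 4) [Fintype (M21.Pt F)] [DecidableEq (M21.Pt F)] :
    ∃ χ : GL (Fin 3) F ⧸ Subgroup.center (GL (Fin 3) F) →* setSystemAut (M21.pgLines F),
      Function.Injective χ ∧ χ.range.index ≤ 2 := by
  classical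
  let θ : GL (Fin 3) F →* Equiv.Perm (M21.Pt F) := MulAction.toPermHom _ _
  have hsm : ∀ (g : GL (Fin 3) F) (v : Fin 3 → F) (hv : v ≠ 0),
      g • Projectivization.mk F v hv = Projectivization.mk F (g • v) ((smul_ne_zero_iff_ne g).mpr hv) := fun _ _ _ => rfl
  have hlines : ∀ g : GL (Fin 3) F, ∀ b ∈ M21.pgLines F, b.image (θ g) ∈ M21.pgLines F := by
    rintro g b ⟨W, hW, hs⟩
    let f := DistribMulAction.toLinearEquiv F (Fin 3 → F) g
    have hf : ∀ z : M21.Pt F, (g • z).submodule = z.submodule.map (f : (Fin 3 → F) →ₗ[F] (Fin 3 → F)) := fun z => by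
      induction z using Projectivization.ind with | _ v hv =>
      rw [hsm, Projectivization.submodule_mk, Projectivization.submodule_mk, Submodule.map_span, Set.image_singleton]
      rfl
    refine ⟨W.map (f : (Fin 3 → F) →ₗ[F] (Fin 3 → F)), (LinearEquiv.finrank_map_eq f W).trans hW, fun x => ?_⟩
    rw [mem_image]
    constructor
    · rintro ⟨z, hz, rfl⟩
      show (g • z).submodule ≤ _
      rw [hf]; exact Submodule.map_mono ((hs z).mp hz)
    · intro h
      refine ⟨g⁻¹ • x, (hs _).mpr ?_, smul_inv_smul g x⟩
      rw [← Submodule.map_le_map_iff_of_injective (f := (f : (Fin 3 → F) →ₗ[F] (Fin 3 → F))) f.injective, ← hf,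
        smul_inv_smul]
      exact h
  have hmem : ∀ g, θ g ∈ setSystemAut (M21.pgLines F) := fun g => SteinerAut.mem_aut.mpr fun b => ⟨fun h => by
      have := hlines g⁻¹ _ h
      rwa [image_image, ← Equiv.Perm.coe_mul, ← map_mul, inv_mul_cancel, map_one, Equiv.Perm.coe_one, image_id] at this,
    hlines g b⟩
  set θ' := θ.codRestrict _ hmem
  have hker : θ'.ker = Subgroup.center (GL (Fin 3) F) := by
    ext g
    constructor
    · intro hg
      refine scalar_of_fix fun v hv => ?_
      have h1 : g • Projectivization.mk F v hv = Projectivization.mk F v hv :=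
        DFunLike.congr_fun (congrArg Subtype.val (MonoidHom.mem_ker.1 hg)) (Projectivization.mk F v hv)
      rw [hsm, Projectivization.mk_eq_mk_iff'] at h1
      obtain ⟨c, hc⟩ := h1
      exact ⟨c, hc.symm⟩
    · intro hg
      obtain ⟨c, hc⟩ := (Matrix.GeneralLinearGroup.mem_center_iff_val_mem_range_scalar).1 hg
      refine MonoidHom.mem_ker.2 (Subtype.ext (Equiv.ext fun z => ?_))
      induction z using Projectivization.ind with | _ v hv =>
      show g • Projectivization.mk F v hv = Projectivization.mk F v hv
      rw [hsm, Projectivization.mk_eq_mk_iff']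
      refine ⟨c, ?_⟩
      show c • v = (g : Matrix (Fin 3) (Fin 3) F).mulVec v
      rw [← hc]
      ext i
      simp [Matrix.mulVec_diagonal]
  refine ⟨QuotientGroup.lift _ θ' hker.ge, ?_, ?_⟩
  · rw [← MonoidHom.ker_eq_bot_iff, QuotientGroup.ker_lift, hker, QuotientGroup.map_mk'_self]
  · have hinj : Function.Injective (QuotientGroup.lift (Subgroup.center (GL (Fin 3) F)) θ' hker.ge) := by
      rw [← MonoidHom.ker_eq_bot_iff, QuotientGroup.ker_lift, hker, QuotientGroup.map_mk'_self]
    have h1 := (QuotientGroup.lift (Subgroup.center (GL (Fin 3) F)) θ' hker.ge).range.card_mul_index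
    rw [← Nat.card_congr (MonoidHom.ofInjective hinj).toEquiv, natCard_pgl hF] at h1
    have h2 := PlaneFour.card_aut_le (L := M21.pgLines F) ⟨M21.pg_card hF, M21.pg_steiner hF⟩
    omega

end Cfsg.Agent.Fus.L34T
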