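import Cfsg.Agent.Lib.Fus.L34Type.Count
import Cfsg.Agent.Lib.Fus.L34Type.Proj
import Cfsg.Agent.Lib.Invol.L34Parabolic
import Cfsg.Agent.Lib.Spor.PlaneFourUnique

/-!
# Sylow 2-subgroups of `L₃(4)` type: `G/O(G)` embeds in `PGL₃(4)`
-/

set_option autoImplicit false
set_option linter.unusedSectionVars false
set_option linter.style.haveILetI false

namespace Cfsg.Agent.Fus.L34T

open Subgroup Cfsg Cfsg.Agent.Spor

universe u v

variable {G : Type u} [Group G] [Finite G] {F : Type v} [Field F] [Fintype F] [CharP F 2] {s : Shape G F}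

theorem Moving.embeds (h : Moving s) :
    ∃ f : G →* GL (Fin 3) F ⧸ Subgroup.center (GL (Fin 3) F), Function.Injective f := by
  classical
  haveI : Fact (Nat.Prime 2) := ⟨Nat.prime_two⟩
  obtain ⟨α, i1, i2, B, ψ, hα, hB, hψ, hmem⟩ := h.exists_plane
  letI : Fintype (M21.Pt F) := Fintype.ofFinite _
  obtain ⟨e, he⟩ := PlaneFour.iso hα (M21.pg_card s.hF) hB (M21.pg_steiner s.hF)
  have he' : ∀ b, b ∈ B ↔ b.image e ∈ M21.pgLines F := fun b => by
    rw [← he]
    exact ⟨Set.mem_image_of_mem _, fun ⟨c, hc, ec⟩ => (Finset.image_injective e.injective ec) ▸ hc⟩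
  let θ : G →* setSystemAut (M21.pgLines F) := (SteinerAut.autEquiv e he').toMonoidHom.comp (ψ.codRestrict _ hmem)
  have hθ : Function.Injective θ := fun a b hab =>
    hψ (congrArg Subtype.val ((SteinerAut.autEquiv e he').injective hab))
  obtain ⟨χ, hχ, hidx⟩ := exists_proj (F := F) s.hF
  set H := χ.range.comap θ with hH
  have hH2 : H.index ≤ 2 := by
    rw [hH, index_comap]
    refine le_trans ?_ hidx
    rw [← relIndex_top_right (H := χ.range)]
    exact relIndex_le_of_le_right le_top (by rw [relIndex_top_right]; exact index_ne_zero_of_finite)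
  have htop : H = ⊤ := by
    by_contra hne
    have hi2 : H.index = 2 := by
      have h0 := index_ne_zero_of_finite (H := H)
      have h1 : H.index ≠ 1 := fun e => hne (index_eq_one.1 e)
      omega
    haveI := normal_of_index_eq_two hi2
    have hcard := card_mul_index H
    rw [hi2, h.card_group] at hcard
    have heven : 2 ∣ Nat.card ↥H := by
      rcases s.card_centralizer h.notA h.notB h.core with e' | e' <;> rw [e'] at hcard <;> omega
    obtain ⟨⟨i, hiH⟩, hi⟩ := exists_prime_orderOf_dvd_card' (G := ↥H) 2 heven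
    rw [Subgroup.orderOf_mk] at hi
    have hall : ∀ x : G, x * x = 1 → x ∈ H := fun x hx => by
      by_cases h1 : x = 1
      · rw [h1]; exact one_mem _
      obtain ⟨c, rfl⟩ := h.exists_conj hi
      obtain ⟨d, rfl⟩ := h.exists_conj (orderOf_eq_prime (by rw [pow_two]; exact hx) h1)
      have := Normal.conj_mem (H := H) inferInstance _ hiH (d * c⁻¹)
      simpa [mul_assoc] using this
    have hS : (s.S : Subgroup G) ≤ H := fun g hg => by
      obtain ⟨x, y, z, rfl⟩ := (s.mem_iff g).1 hg
      have : s.e x y z = s.e x 0 (z + x * y) * s.e 0 y 0 := by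
        rw [s.e_mul, add_zero, zero_add, add_zero, add_assoc, Shape.addSelf, add_zero]
      rw [this]
      exact H.mul_mem (hall _ (by rw [s.e_sq, mul_zero, s.e_one])) (hall _ (by rw [s.e_sq, zero_mul, s.e_one]))
    refine s.S.not_dvd_index ?_
    have := index_dvd_of_le hS
    rwa [hi2] at this
  have hrange : ∀ g, θ g ∈ χ.range := fun g => by
    have : g ∈ H := by rw [htop]; exact mem_top g
    exact this
  refine ⟨(MonoidHom.ofInjective hχ).symm.toMonoidHom.comp (θ.codRestrict _ hrange), ?_⟩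
  exact fun a b hab => hθ (congrArg Subtype.val ((MonoidHom.ofInjective hχ).symm.injective hab))

theorem Shape.embeds (s : Shape G F) (hO : Cfsg.oddCore G = ⊥) :
    ∃ f : G →* GL (Fin 3) F ⧸ Subgroup.center (GL (Fin 3) F), Function.Injective f := by
  by_cases hB : s.mirror.Pres
  · exact s.embeds_of_normal (s.normal_of_pres hO hB) hO
  by_cases hA : s.Pres
  · refine s.mirror.embeds_of_normal (s.mirror.normal_of_pres hO ?_) hO
    have e : s.mirror.mirror = s := by
      cases s
      simp only [Shape.mirror, Shape.mk.injEq, true_and]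
      funext x y z
      congr 1
      rw [mul_comm y x, add_assoc, CharTwo.add_self_eq_zero, add_zero]
    rwa [e]
  exact Moving.embeds ⟨hO, hA, hB⟩

/-- The main theorem. -/
theorem embeds_mod_core {G : Type u} [Group G] [Finite G] {F : Type v} [Field F] [Fintype F]
    (hF : Fintype.card F = 4) (S : Sylow 2 G)
    (P : Sylow 2 (Matrix.ProjectiveSpecialLinearGroup (Fin 3) F))
    (hS : Nonempty (↥(S : Subgroup G) ≃* ↥(P : Subgroup (Matrix.ProjectiveSpecialLinearGroup (Fin 3) F)))) :
    ∃ f : G ⧸ Cfsg.oddCore G →* GL (Fin 3) F ⧸ Subgroup.center (GL (Fin 3) F), Function.Injective f := by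
  haveI : Fact (Nat.Prime 2) := ⟨Nat.prime_two⟩
  haveI : CharP F 2 := charP_of_card_eq_prime_pow (f := 2) (by rw [hF]; norm_num)
  obtain ⟨σ⟩ := hS
  obtain ⟨m⟩ := L34Elem.model hF
  obtain ⟨Q, hQ⟩ := Invol.L34Par.exists_U0_sylow
  let φ : F ≃+* SU32.F4 := FiniteField.ringEquivOfCardEq (hF.trans SU32.card_F4.symm)
  let P' := P.mapSurjective (f := m.toMonoidHom) m.surjective
  let eP : ↥(Q : Subgroup (Matrix.ProjectiveSpecialLinearGroup (Fin 3) SU32.F4)) ≃* ↥(S : Subgroup G) :=
    ((Q.equiv P').trans ((P : Subgroup _).equivMapOfInjective m.toMonoidHom m.injective).symm).trans σ.symm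
  have hu : ∀ x y z : F, L34Elem.π (Invol.L34Par.uni (φ x) (φ y) (φ z)) ∈ (Q : Subgroup _) := fun x y z =>
    hQ ▸ ⟨_, _, _, rfl⟩
  let sG : Shape G F :=
    { hF := hF
      S := S
      e := fun x y z => (eP ⟨_, hu x y z⟩ : G)
      e_mul := fun x y z x' y' z' => by
        rw [← Subgroup.coe_mul, ← map_mul]
        refine congrArg (fun t => ((eP t : ↥(S : Subgroup G)) : G)) (Subtype.ext ?_)
        show L34Elem.π _ * L34Elem.π _ = L34Elem.π _
        rw [← map_mul, Invol.L34Par.uni_mul, map_add, map_add, map_add, map_add, map_mul]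
      e_inj := fun x y z x' y' z' hh => by
        obtain ⟨h1, h2, h3⟩ := Invol.L34Par.π_uni_inj (congrArg Subtype.val (eP.injective (Subtype.ext hh)))
        exact ⟨φ.injective h1, φ.injective h2, φ.injective h3⟩
      mem_iff := fun g => by
        refine ⟨fun hg => ?_, fun ⟨x, y, z, e⟩ => e ▸ SetLike.coe_mem _⟩
        obtain ⟨⟨q, hq⟩, e⟩ := eP.surjective ⟨g, hg⟩
        obtain ⟨a, c, b, rfl⟩ := (hQ ▸ hq : q ∈ Invol.L34Par.U0)
        refine ⟨φ.symm a, φ.symm c, φ.symm b, ?_⟩
        refine (congrArg Subtype.val (congrArg eP (Subtype.ext ?_))).trans (congrArg Subtype.val e)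
        show L34Elem.π _ = L34Elem.π _
        rw [φ.apply_symm_apply, φ.apply_symm_apply, φ.apply_symm_apply] }
  haveI : (Cfsg.oddCore G).Normal := Grp.pPrimeCore_isNormal
  have hodd : Odd (Nat.card (QuotientGroup.mk' (Cfsg.oddCore G)).ker) := by
    rw [QuotientGroup.ker_mk']
    exact Nat.coprime_two_right.1 Grp.pPrimeCore_coprime
  exact (sG.map _ (QuotientGroup.mk'_surjective _) hodd).embeds Grp.pPrimeCore_quotient_bot

end Cfsg.Agent.Fus.L34T
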