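import Mathlib

/-!
# The plane over the field with four elements: transvections and semilinear maps

Additive permutations of `F × F`; `up y` and `low s` are the transvections fixing `0 × F`, `F × 0` pointwise.
-/

set_option autoImplicit false
set_option linter.unusedSectionVars false

namespace Cfsg.Agent.Fus.L34T

variable {F : Type*} [Field F] [Fintype F] [CharP F 2]

/-- An additive permutation. -/
def Additive' {M : Type*} [AddGroup M] (g : Equiv.Perm M) : Prop := ∀ v w, g (v + w) = g v + g w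

/-- A linear permutation of the plane. -/
def Lin (g : Equiv.Perm (F × F)) : Prop := ∀ (c : F) (v : F × F), g (c • v) = c • g v

/-- The transvection `(x, z) ↦ (x, z + y x)`. -/
def up (y : F) : Equiv.Perm (F × F) where
  toFun v := (v.1, v.2 + y * v.1)
  invFun v := (v.1, v.2 - y * v.1)
  left_inv v := by ext <;> simp
  right_inv v := by ext <;> simp

/-- The transvection `(x, z) ↦ (x + s z, z)`. -/
def low (s : F) : Equiv.Perm (F × F) where
  toFun v := (v.1 + s * v.2, v.2)
  invFun v := (v.1 - s * v.2, v.2)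
  left_inv v := by ext <;> simp
  right_inv v := by ext <;> simp

/-- The shear `(x, z) ↦ (x, z + h x)` by an arbitrary map. -/
def shear (h : F → F) : Equiv.Perm (F × F) where
  toFun v := (v.1, v.2 + h v.1)
  invFun v := (v.1, v.2 - h v.1)
  left_inv v := by ext <;> simp
  right_inv v := by ext <;> simp

@[simp] theorem up_apply (y : F) (v : F × F) : up y v = (v.1, v.2 + y * v.1) := rfl
@[simp] theorem low_apply (s : F) (v : F × F) : low s v = (v.1 + s * v.2, v.2) := rfl
@[simp] theorem shear_apply (h : F → F) (v : F × F) : shear h v = (v.1, v.2 + h v.1) := rfl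

theorem shear_inv_apply (h : F → F) (v : F × F) : (shear h)⁻¹ v = (v.1, v.2 - h v.1) := rfl

theorem up_zero : up (0 : F) = 1 := Equiv.ext fun v => by simp

theorem up_mul (y y' : F) : up y * up y' = up (y + y') := Equiv.ext fun v => by
  simp only [Equiv.Perm.coe_mul, Function.comp_apply, up_apply, Prod.mk.injEq, true_and]; ring

theorem low_mul (s s' : F) : low s * low s' = low (s + s') := Equiv.ext fun v => by
  simp only [Equiv.Perm.coe_mul, Function.comp_apply, low_apply, Prod.mk.injEq, and_true]; ring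

theorem up_injective : Function.Injective (up (F := F)) := fun a b h => by
  simpa using congrArg (fun g : Equiv.Perm (F × F) => (g (1, 0)).2) h

theorem lin_up (y : F) : Lin (up y) := fun c v => by
  ext <;> simp [mul_add, mul_left_comm]

theorem lin_low (s : F) : Lin (low s) := fun c v => by
  ext <;> simp [mul_add, mul_left_comm]

theorem lin_one : Lin (1 : Equiv.Perm (F × F)) := fun _ _ => rfl

theorem Lin.mul {g k : Equiv.Perm (F × F)} (hg : Lin g) (hk : Lin k) : Lin (g * k) := fun c v => by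
  simp [hk c v, hg c (k v)]

theorem Lin.inv {g : Equiv.Perm (F × F)} (hg : Lin g) : Lin g⁻¹ := fun c v => by
  apply g.injective
  rw [hg, Equiv.Perm.coe_inv, Equiv.apply_symm_apply, Equiv.apply_symm_apply]

variable (hF : Fintype.card F = 4)
include hF

theorem pow_four (x : F) : x ^ 4 = x := hF ▸ FiniteField.pow_card x

theorem sq_sq (x : F) : (x ^ 2) ^ 2 = x := by rw [← pow_mul]; exact pow_four hF x

theorem add_self (x : F) : x + x = 0 := CharTwo.add_self_eq_zero x

theorem cases_four {x w : F} (hw0 : w ≠ 0) (hw1 : w ≠ 1) : x = 0 ∨ x = 1 ∨ x = w ∨ x = w + 1 := by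
  classical
  by_contra h
  push Not at h
  obtain ⟨h0, h1, hw, hw'⟩ := h
  have e1 : w + 1 ≠ 0 := fun e => hw1 (by rwa [add_eq_zero_iff_eq_neg, CharTwo.neg_eq] at e)
  have e2 : w + 1 ≠ w := fun e => one_ne_zero (add_eq_left.1 e)
  have e3 : w + 1 ≠ 1 := fun e => hw0 (add_eq_right.1 e)
  have : ({0, 1, w, w + 1, x} : Finset F).card ≤ 4 := hF ▸ Finset.card_le_univ _
  simp [Finset.card_insert_of_notMem, hw0.symm, hw1.symm, e1.symm, e2.symm, e3.symm, h0.symm, h1.symm, hw.symm,
    hw'.symm] at this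

theorem exists_omega : ∃ w : F, w ≠ 0 ∧ w ≠ 1 := by
  classical
  by_contra h
  push Not at h
  have : Fintype.card F ≤ ({0, 1} : Finset F).card := by
    rw [← Finset.card_univ]
    exact Finset.card_le_card fun x _ => by
      by_cases e : x = 0
      · simp [e]
      · simp [h x e]
  have h2 : ({0, 1} : Finset F).card ≤ 2 := Finset.card_le_two
  omega

theorem omega_sq {w : F} (hw0 : w ≠ 0) (hw1 : w ≠ 1) : w ^ 2 = w + 1 := by
  rcases cases_four hF (x := w ^ 2) hw0 hw1 with e | e | e | e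
  · exact absurd (pow_eq_zero_iff (by norm_num) |>.1 e) hw0
  · refine absurd ?_ hw1
    have h4 := pow_four hF w
    rw [show w ^ 4 = (w ^ 2) ^ 2 by ring, e, one_pow] at h4
    exact h4.symm
  · exact absurd (mul_left_cancel₀ hw0 ((mul_one w).symm ▸ (pow_two w).symm.trans e)) hw1
  · exact e

/-- An additive bijection of the field is a multiplication, followed by squaring or not. -/
theorem additive_cases {f : F → F} (hadd : ∀ a b, f (a + b) = f a + f b) (hinj : Function.Injective f) :
    ∃ c : F, c ≠ 0 ∧ ((∀ x, f x = c * x) ∨ ∀ x, f x = c * x ^ 2) := by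
  have h0 : f 0 = 0 := by simpa using hadd 0 0
  obtain ⟨w, hw0, hw1⟩ := exists_omega hF
  have hc : f 1 ≠ 0 := fun e => one_ne_zero (hinj (e.trans h0.symm))
  refine ⟨f 1, hc, ?_⟩
  have hd0 : f w / f 1 ≠ 0 := div_ne_zero (fun e => hw0 (hinj (e.trans h0.symm))) hc
  have hd1 : f w / f 1 ≠ 1 := fun e => hw1 (hinj ((div_eq_one_iff_eq hc).1 e))
  have hw2 := omega_sq hF hw0 hw1
  rcases cases_four hF (x := f w / f 1) hw0 hw1 with e | e | e | e
  · exact absurd e hd0
  · exact absurd e hd1
  · left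
    intro x
    have hwv : f w = f 1 * w := by rw [mul_comm]; exact (div_eq_iff hc).1 e
    rcases cases_four hF (x := x) hw0 hw1 with rfl | rfl | rfl | rfl
    · rw [h0, mul_zero]
    · rw [mul_one]
    · exact hwv
    · rw [hadd, hwv]; ring
  · right
    intro x
    have hwv : f w = f 1 * w ^ 2 := by rw [hw2, mul_comm]; exact (div_eq_iff hc).1 e
    rcases cases_four hF (x := x) hw0 hw1 with rfl | rfl | rfl | rfl
    · rw [h0]; ring
    · ring
    · exact hwv
    · rw [hadd, hwv, CharTwo.add_sq]; ring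

theorem two_eq : (2 : F) = 0 := CharTwo.two_eq_zero

theorem mul_inv_self_sq {c : F} (hc : c ≠ 0) : c * (c * c) = 1 := by
  refine mul_left_cancel₀ hc ?_
  linear_combination pow_four hF c

/-- An upper and a lower semilinear transvection have a product of order six. -/
theorem mixed_pow {c : F} (hc : c ≠ 0) (M : Equiv.Perm (F × F))
    (hM : ∀ v : F × F, M v = (v.1 + c * v.2 ^ 2, v.2 + c⁻¹ * (v.1 + c * v.2 ^ 2))) :
    M ^ 3 ≠ 1 ∧ M ^ 6 = 1 := by
  have h2 := two_eq hF (F := F)
  have h4 := pow_four hF (F := F)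
  have step : ∀ a z, M (c * a, z) = (c * (a + z ^ 2), a + z + z ^ 2) := fun a z => by
    rw [hM]
    ext
    · simp only; ring
    · simp only
      rw [← mul_add c, inv_mul_cancel_left₀ hc]; ring
  have h3 : ∀ a z, (M ^ 3) (c * a, z) = (c * a ^ 2, z ^ 2) := fun a z => by
    rw [show (M ^ 3) (c * a, z) = M (M (M (c * a, z))) from rfl, step, step,
      show a + z ^ 2 + (a + z + z ^ 2) ^ 2 = a + a ^ 2 + z by
        linear_combination h4 z + (a*z+a*z^2+z^3+z^2)*h2,
      show a + z ^ 2 + (a + z + z ^ 2) + (a + z + z ^ 2) ^ 2 = a ^ 2 + z ^ 2 by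
        linear_combination h4 z + (a+z+z^2+a*z+a*z^2+z^3)*h2,
      step,
      show a + a ^ 2 + z + (a ^ 2 + z ^ 2) ^ 2 = a ^ 2 by
        linear_combination h4 a + h4 z + (a+z+a^2*z^2)*h2,
      show a + a ^ 2 + z + (a ^ 2 + z ^ 2) + (a ^ 2 + z ^ 2) ^ 2 = z ^ 2 by
        linear_combination h4 a + h4 z + (a+a^2+z+a^2*z^2)*h2]
  refine ⟨fun e => ?_, ?_⟩
  · obtain ⟨w, hw0, hw1⟩ := exists_omega hF
    have := congrArg (fun g : Equiv.Perm (F × F) => (g (c * 0, w)).2) e
    simp only [h3, Equiv.Perm.coe_one, id] at this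
    exact hw1 (mul_left_cancel₀ hw0 ((mul_one w).symm ▸ (pow_two w).symm.trans this))
  · refine Equiv.ext fun v => ?_
    obtain ⟨x, z⟩ := v
    rw [← mul_inv_cancel_left₀ hc x]
    rw [show (6 : ℕ) = 3 + 3 from rfl, pow_add, Equiv.Perm.coe_mul, Function.comp_apply, h3, h3, sq_sq hF, sq_sq hF]
    rfl

/-- A word in three semilinearly related transvection groups has order four. -/
theorem triple_pow {c : F} (hc : c ≠ 0) (M : Equiv.Perm (F × F))
    (hM : M = up c * low c⁻¹ * (shear (fun x => c * x ^ 2) * low c⁻¹ * (shear fun x => c * x ^ 2)⁻¹)) :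
    M ^ 2 ≠ 1 ∧ M ^ 4 = 1 := by
  have h2 := two_eq hF (F := F)
  have h4 := pow_four hF (F := F)
  have step : ∀ x w, M (x, c * w) = (x ^ 2 + w ^ 2, c * (x + x ^ 2 + w)) := fun x w => by
    subst hM
    simp only [Equiv.Perm.coe_mul, Function.comp_apply, shear_inv_apply, shear_apply, low_apply, up_apply]
    rw [← mul_sub c, inv_mul_cancel_left₀ hc, ← mul_add c, inv_mul_cancel_left₀ hc, ← mul_add c]
    ext
    · simp only
      linear_combination h4 x + (x + w - x^2 + x*w - x^3 - x^2*w)*h2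
    · simp only
      congr 1
      linear_combination (2:F) * h4 x + (x^4 + x + w^2 + w - 2*x^2 + 2*x*w - 2*x^3 - 2*x^2*w)*h2 + (x^2 - x^4)*h2
  have hsq : ∀ x w, (M ^ 2) (x, c * w) = (x ^ 2 + w + w ^ 2, c * w ^ 2) := fun x w => by
    rw [show (M ^ 2) (x, c * w) = M (M (x, c * w)) from rfl, step, step,
      show (x ^ 2 + w ^ 2) ^ 2 + (x + x ^ 2 + w) ^ 2 = x ^ 2 + w + w ^ 2 by
        linear_combination 2 * h4 x + h4 w + (x+x^2*w^2+x^3+x*w+x^2*w)*h2,
      show x ^ 2 + w ^ 2 + (x ^ 2 + w ^ 2) ^ 2 + (x + x ^ 2 + w) = w ^ 2 by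
        linear_combination h4 x + h4 w + (x+x^2+w+x^2*w^2)*h2]
  refine ⟨fun e => ?_, ?_⟩
  · obtain ⟨w, hw0, hw1⟩ := exists_omega hF
    have := congrArg (fun g : Equiv.Perm (F × F) => (g (w, c * 0)).1) e
    simp only [hsq, Equiv.Perm.coe_one, id] at this
    exact hw1 (mul_left_cancel₀ hw0 ((mul_one w).symm ▸ (pow_two w).symm.trans (by simpa using this)))
  · refine Equiv.ext fun v => ?_
    obtain ⟨x, z⟩ := v
    rw [← mul_inv_cancel_left₀ hc z]
    rw [show (4 : ℕ) = 2 + 2 from rfl, pow_add, Equiv.Perm.coe_mul, Function.comp_apply, hsq, hsq, sq_sq hF]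
    ext
    · simp only [Equiv.Perm.coe_one, id]
      generalize c⁻¹ * z = w
      linear_combination h4 x - h4 w + (w ^ 2 + w ^ 4 + x ^ 2 * w + x ^ 2 * w ^ 2 + w ^ 3) * h2
    · rfl

end Cfsg.Agent.Fus.L34T
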