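import Cfsg.Agent.Lib.Fus.L34Type.Linear

/-!
# Linearity and transitivity
-/

set_option autoImplicit false
set_option linter.unusedSectionVars false

namespace Cfsg.Agent.Fus.L34T

open Subgroup

variable {F : Type*} [Field F] [Fintype F] [CharP F 2]

theorem Semi.mul_lin {g k : Equiv.Perm (F × F)} (hg : Semi g) (hk : Lin k) : Semi (g * k) := fun c v => by
  simp [hk c v, hg c (k v)]

theorem pow_semi {g : Equiv.Perm (F × F)} (hg : Semi g) (hF : Fintype.card F = 4) :
    ∀ n : ℕ, Lin (g ^ (2 * n)) ∧ Semi (g ^ (2 * n + 1)) := by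
  intro n
  have h2 : Lin (g * g) := fun c v => by simp [hg c v, hg (c ^ 2) (g v), sq_sq hF]
  have hL : ∀ n : ℕ, Lin (g ^ (2 * n)) := fun n => by
    induction n with
    | zero => simpa using lin_one
    | succ n ih => rw [show 2 * (n + 1) = 2 * n + 2 by ring, pow_add, pow_two]; exact ih.mul h2
  exact ⟨hL n, by rw [pow_succ']; exact hg.mul_lin (hL n)⟩

namespace PlaneGrp

variable {X : Subgroup (Equiv.Perm (F × F))}

/-- If some conjugate of `upG` fixes `F × 0` then `X` contains all `low s`. -/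
theorem low_mem (hX : PlaneGrp X) {k : Equiv.Perm (F × F)} (hk : k ∈ X) (h : ∀ z, (k (0, z)).2 = 0) (s : F) :
    low s ∈ X := by
  have hF := hX.card_field
  have hka := hX.add k hk
  have hinj : Function.Injective fun z => (k (0, z)).1 := fun a b e =>
    congrArg Prod.snd (k.injective (Prod.ext e ((h a).trans (h b).symm) : k (0, a) = k (0, b)))
  have hkZ : ∀ x, ∃ z, k (0, z) = (x, 0) := fun x => by
    obtain ⟨z, hz⟩ := Finite.injective_iff_surjective.1 hinj x
    exact ⟨z, Prod.ext hz (h z)⟩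
  have key : ∀ y, y ≠ 0 → ∃ c, c ≠ 0 ∧ k * up y * k⁻¹ = low c := by
    intro y hy
    set g := k * up y * k⁻¹ with hg
    have hgX : g ∈ X := hX.conj_mem hk (hX.mem_up y)
    have hga := hX.add g hgX
    have hfix : ∀ x, g (x, 0) = (x, 0) := fun x => by
      obtain ⟨z, hz⟩ := hkZ x
      rw [← hz]; simp [hg]
    have hsnd : ∀ v, (g v).2 = v.2 := fun v => by
      obtain ⟨m, rfl⟩ := k.surjective v
      have e : up y m = m + (0, y * m.1) := by ext <;> simp
      rw [hg]
      simp only [Equiv.Perm.coe_mul, Function.comp_apply, Equiv.Perm.coe_inv, Equiv.symm_apply_apply, e]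
      rw [hka, Prod.snd_add, h, add_zero]
    set φ := fun z => (g (0, z)).1 with hφ
    have hgv : ∀ v : F × F, g v = (v.1 + φ v.2, v.2) := fun v => by
      conv_lhs => rw [show v = (v.1, 0) + (0, v.2) by ext <;> simp]
      rw [hga, hfix]
      ext <;> simp [hφ, hsnd]
    have hadd : ∀ a b, φ (a + b) = φ a + φ b := fun a b => by
      rw [hφ]; simp only
      rw [show ((0 : F), a + b) = (0, a) + (0, b) by ext <;> simp, hga]; rfl
    have hφ0 : Function.Injective φ := fun a b e => by
      have e2 : φ (a - b) = 0 := by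
        have := hadd (a - b) b
        rw [sub_add_cancel, e] at this
        simpa using this
      have hv : g (0, a - b) = (0, a - b) := by rw [hgv]; simp [e2]
      obtain ⟨m, hm⟩ := k.surjective (0, a - b)
      rw [← hm, hg] at hv
      simp only [Equiv.Perm.coe_mul, Function.comp_apply, Equiv.Perm.coe_inv, Equiv.symm_apply_apply,
        EmbeddingLike.apply_eq_iff_eq] at hv
      obtain ⟨x, z⟩ := m
      have hx : x = 0 := (fix_up hy _).1 hv
      have := congrArg Prod.snd hm
      rw [hx, h] at this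
      exact sub_eq_zero.1 this.symm
    obtain ⟨c, hc, hlin | hsq⟩ := additive_cases hF hadd hφ0
    · exact ⟨c, hc, Equiv.ext fun v => by rw [hgv, hlin]; simp⟩
    exfalso
    set u := up c⁻¹
    have hgg : g * g = 1 := by
      rw [hg, show k * up y * k⁻¹ * (k * up y * k⁻¹) = k * (up y * up y) * k⁻¹ by group, up_mul,
        CharTwo.add_self_eq_zero, up_zero]; simp
    have huu : u * u = 1 := by rw [up_mul, CharTwo.add_self_eq_zero, up_zero]
    obtain ⟨h3, h6⟩ := mixed_pow hF hc (u * g) (fun v => by simp [u, hgv, hsq])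
    set M := u * g with hM
    have hMX : M ^ 3 ∈ X := pow_mem (mul_mem (hX.mem_up _) hgX) 3
    have hM2 : M ^ 3 * M ^ 3 = 1 := by rw [← pow_add]; exact h6
    have hgi : g⁻¹ = g := inv_eq_of_mul_eq_one_right hgg
    have hui : u⁻¹ = u := inv_eq_of_mul_eq_one_right huu
    have hMi : (M ^ 3)⁻¹ = M ^ 3 := inv_eq_of_mul_eq_one_right hM2
    have hcg : g * M ^ 3 * g = M ^ 3 := by
      conv_rhs => rw [← hMi, ← inv_pow, hM, mul_inv_rev, hgi, hui]
      have e : g * u = g * (u * g) * g⁻¹ := by group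
      rw [e, conj_pow, hgi]
    have hcu : u * M ^ 3 * u = M ^ 3 := by
      conv_rhs => rw [← hMi, ← inv_pow, hM, mul_inv_rev, hgi, hui]
      have e : g * u = u * (u * g) * u⁻¹ := by rw [← mul_assoc, huu, one_mul, hui]
      rw [e, conj_pow, hui]
    have com : ∀ a : Equiv.Perm (F × F), a * a = 1 → a * M ^ 3 * a = M ^ 3 → Commute a (M ^ 3) := fun a ha e => by
      show a * M ^ 3 = M ^ 3 * a
      conv_rhs => rw [← e]
      rw [mul_assoc _ a a, ha, mul_one]
    have hg1 : g ≠ 1 := fun e => hy (up_injective (by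
      rw [up_zero]; rw [hg, conj_eq_one_iff] at e; exact e))
    have hu1 : u ≠ 1 := fun e => inv_ne_zero hc (up_injective (by rw [up_zero]; exact e))
    have f1 := (hX.fix_eq_of_comm hgX hMX hgg hM2 hg1 h3 (com g hgg hcg) (1, 0)).1 (hfix 1)
    have f2 := (hX.fix_eq_of_comm (hX.mem_up c⁻¹) hMX huu hM2 hu1 h3 (com u huu hcu) (1, 0)).2 f1
    simpa using (fix_up (inv_ne_zero hc) _).1 f2
  choose c hc hce using key
  classical
  have hcinj : Function.Injective fun y => if h : y = 0 then (0 : F) else c y h := by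
    intro a b e
    simp only at e
    split_ifs at e with ha hb hb
    · rw [ha, hb]
    · exact absurd e.symm (hc b hb)
    · exact absurd e (hc a ha)
    · have := (hce a ha).trans ((congrArg low e).trans (hce b hb).symm)
      exact up_injective (mul_left_cancel (mul_right_cancel this))
  obtain ⟨y, hy⟩ := Finite.injective_iff_surjective.1 hcinj s
  simp only at hy
  split_ifs at hy with h0
  · rw [← hy, show low (0 : F) = (1 : Equiv.Perm (F × F)) from Equiv.ext fun v => by simp]
    exact one_mem _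
  · rw [← hy, ← hce y h0]; exact hX.conj_mem hk (hX.mem_up y)

theorem shear_data (hX : PlaneGrp X) {k : Equiv.Perm (F × F)} (hk : k ∈ X) (h : ∃ z, (k (0, z)).1 ≠ 0) :
    ∃ ψ : F → F, (∀ a b, ψ (a + b) = ψ a + ψ b) ∧ (∀ z, (shear ψ * k) (0, z) = ((k (0, z)).1, 0)) ∧
      ∀ x, ∃ z, k (0, z) = (x, ψ x) := by
  have hka := hX.add k hk
  let e : F →+ F := AddMonoidHom.mk' (fun z => (k (0, z)).1) fun a b => by
    rw [show ((0 : F), a + b) = (0, a) + (0, b) by ext <;> simp, hka]; rfl
  let d : F →+ F := AddMonoidHom.mk' (fun z => (k (0, z)).2) fun a b => by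
    rw [show ((0 : F), a + b) = (0, a) + (0, b) by ext <;> simp, hka]; rfl
  have hinj : Function.Injective e := (injective_iff_map_eq_zero e).2 fun z hz => by
    by_contra h0
    obtain ⟨t, ht⟩ := h
    exact ht (hX.disjoint hk h0 hz t)
  let E := AddEquiv.ofBijective e ⟨hinj, Finite.injective_iff_surjective.1 hinj⟩
  refine ⟨fun x => d (E.symm x), fun a b => by simp, fun z => ?_, fun x => ⟨E.symm x, ?_⟩⟩
  · have e1 : E.symm ((k (0, z)).1) = z := E.symm_apply_apply z
    simp only [Equiv.Perm.coe_mul, Function.comp_apply, shear_apply, e1]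
    exact Prod.ext rfl (CharTwo.add_self_eq_zero _)
  · exact Prod.ext (E.apply_symm_apply x) rfl

/-- If `X` moves `0 × F`, a conjugate by a shear contains all `low s`. -/
theorem exists_shear_low (hX : PlaneGrp X) {k : Equiv.Perm (F × F)} (hk : k ∈ X) (h : ∃ z, (k (0, z)).1 ≠ 0) :
    ∃ ψ : F → F, (∀ a b, ψ (a + b) = ψ a + ψ b) ∧ (∀ x, ∃ z, k (0, z) = (x, ψ x)) ∧
      ∀ s, shear ψ * low s * (shear ψ)⁻¹ ∈ X := by
  obtain ⟨ψ, hψ, hψk, hψx⟩ := hX.shear_data hk h
  refine ⟨ψ, hψ, hψx, fun s => ?_⟩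
  have hX' := hX.conj (additive_shear hψ) (fun y => shear_comm_up y)
  obtain ⟨g, hg, e⟩ := hX'.low_mem (k := shear ψ * k * (shear ψ)⁻¹) ⟨k, hk, rfl⟩ (fun z => by
    have h0 : ψ 0 = 0 := by simpa using hψ 0 0
    have e1 : (shear ψ)⁻¹ (0, z) = (0, z) := by rw [shear_inv, shear_apply]; simp [h0]
    rw [Equiv.Perm.coe_mul, Function.comp_apply, e1, hψk]) s
  rw [← e, MulEquiv.coe_toMonoidHom, MulAut.conj_apply, shear_inv]
  have hs : shear ψ * shear ψ = 1 := by nth_rw 1 [← shear_inv ψ]; exact inv_mul_cancel _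
  rwa [show shear ψ * (shear ψ * g * shear ψ) * shear ψ = shear ψ * shear ψ * g * (shear ψ * shear ψ) by group,
    hs, one_mul, mul_one]

/-- Elements preserving both coordinate lines are semilinear. -/
theorem diag_cases (hX : PlaneGrp X) {k : Equiv.Perm (F × F)} (hk : k ∈ X) (h : ∀ z, (k (0, z)).1 = 0)
    (h' : ∀ x, (k (x, 0)).2 = 0) : Lin k ∨ Semi k := by
  have hka := hX.add k hk
  set α := fun x => (k (x, 0)).1 with hα
  set β := fun z => (k (0, z)).2 with hβ
  have hkv : ∀ v : F × F, k v = (α v.1, β v.2) := fun v => by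
    conv_lhs => rw [show v = (v.1, 0) + (0, v.2) by ext <;> simp]
    rw [hka]; ext <;> simp [hα, hβ, h, h']
  have hadd : ∀ a b, α (a + b) = α a + α b := fun a b => by
    simp only [hα]; rw [show (a + b, (0 : F)) = (a, 0) + (b, 0) by ext <;> simp, hka]; rfl
  have hinj : Function.Injective α := fun a b e =>
    congrArg Prod.fst (k.injective (Prod.ext e ((h' a).trans (h' b).symm) : k (a, 0) = k (b, 0)))
  obtain ⟨c, hc, hcase⟩ := additive_cases hX.card_field hadd hinj
  have hrel : ∀ y, ∃ y', ∀ x, β (y * x) = y' * α x := fun y => by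
    obtain ⟨y', hy'⟩ := hX.conj_up hk h y
    refine ⟨y', fun x => ?_⟩
    have e := congrArg (fun g : Equiv.Perm (F × F) => (g (k (x, 0))).2) hy'
    simp only [up_apply, Equiv.Perm.coe_mul, Function.comp_apply, Equiv.Perm.coe_inv, Equiv.symm_apply_apply] at e
    rw [hkv, hkv] at e
    simp only at e
    rw [zero_add, show β 0 = 0 by simp [hβ, show ((0 : F), (0 : F)) = 0 from rfl, hka.map_zero]] at e
    simpa using e.symm
  obtain ⟨d, hd⟩ := hrel 1
  simp only [one_mul] at hd
  rcases hcase with hl | hs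
  · left; intro a v; rw [hkv, hkv]; ext <;> simp [hd, hl] <;> ring
  · right; intro a v; rw [hkv, hkv]; ext <;> simp [hd, hs] <;> ring

theorem not_semi (hX : PlaneGrp X) {k : Equiv.Perm (F × F)} (hk : k ∈ X) (h : ∀ z, (k (0, z)).1 = 0) :
    ¬ Semi k := by
  intro hs
  obtain ⟨e, m, hm, he⟩ := Nat.exists_eq_two_pow_mul_odd (orderOf_pos k).ne'
  have hgX : k ^ m ∈ X := pow_mem hk m
  have hpres : ∀ n : ℕ, ∀ z, ((k ^ n) (0, z)).1 = 0 := by
    intro n
    induction n with
    | zero => simp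
    | succ n ih =>
      intro z
      rw [pow_succ', Equiv.Perm.coe_mul, Function.comp_apply, hX.pres_iff hk h]
      exact ih z
  have h2 : k ^ m * k ^ m = 1 := hX.sq_eq_one hgX (n := e) (by rw [← pow_mul, mul_comm, ← he, pow_orderOf_eq_one])
  obtain ⟨y, hy⟩ := hX.mem_upG_of_sq hgX (hpres m) h2
  obtain ⟨r, rfl⟩ := hm
  have hsm := (pow_semi hs hX.card_field r).2
  rw [← hy] at hsm
  obtain ⟨w, hw0, hw1⟩ := exists_omega hX.card_field
  have := congrArg Prod.fst (hsm w (1, 0))
  rw [lin_up y w] at this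
  simp at this
  exact hw1 (mul_left_cancel₀ hw0 ((mul_one w).symm ▸ (pow_two w).symm.trans this.symm))

theorem diag_lin (hX : PlaneGrp X) {k : Equiv.Perm (F × F)} (hk : k ∈ X) (h : ∀ z, (k (0, z)).1 = 0)
    (h' : ∀ x, (k (x, 0)).2 = 0) : Lin k :=
  (hX.diag_cases hk h h').resolve_right (hX.not_semi hk h)

/-- If all `low s` are in `X`, every element is linear. -/
theorem lin_of_low (hX : PlaneGrp X) (hlow : ∀ s, low s ∈ X) {k : Equiv.Perm (F × F)} (hk : k ∈ X) : Lin k := by
  have hF := hX.card_field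
  set τ := up (1 : F) * low 1 * up 1 with hτ
  have hτX : τ ∈ X := mul_mem (mul_mem (hX.mem_up 1) (hlow 1)) (hX.mem_up 1)
  have hτv : ∀ v : F × F, τ v = (v.2, v.1) := fun v => by
    simp only [hτ, Equiv.Perm.coe_mul, Function.comp_apply, up_apply, low_apply, one_mul]
    have h2 := two_eq hF (F := F)
    ext
    · simp only; linear_combination v.1 * h2
    · simp only; linear_combination (v.1 + v.2) * h2
  have hτl : Lin τ := ((lin_up _).mul (lin_low _)).mul (lin_up _)
  -- the images of `0 × F` are lines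
  have hline : ∀ g ∈ X, (∀ z, (g (0, z)).1 = 0) ∨ ∃ c : F, ∀ z, (g (0, z)).2 = c * (g (0, z)).1 := by
    intro g hg
    by_cases hz : ∀ z, (g (0, z)).1 = 0
    · exact .inl hz
    push Not at hz
    obtain ⟨ψ, hψ, hψx, hψl⟩ := hX.exists_shear_low hg hz
    have hg' : ∀ z, (g (0, z)).2 = ψ (g (0, z)).1 := fun z => by
      obtain ⟨t, ht⟩ := hψx (g (0, z)).1
      have htz : ((0 : F), t + z).2 = 0 := by
        by_contra h0
        obtain ⟨t', ht'⟩ := hz
        exact ht' (hX.disjoint hg h0 (by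
          rw [show ((0 : F), t + z) = (0, t) + (0, z) by ext <;> simp, hX.add g hg, Prod.fst_add, ht,
            CharTwo.add_self_eq_zero]) t')
      have : t = z := CharTwo.add_eq_zero.1 htz
      subst this
      rw [ht]
    right
    by_cases hinj : Function.Injective ψ
    · obtain ⟨c, hc, hl | hs⟩ := additive_cases hF hψ hinj
      · exact ⟨c, fun z => by rw [hg', hl]⟩
      exfalso
      set M := up c * low c⁻¹ * (shear (fun x => c * x ^ 2) * low c⁻¹ * (shear fun x => c * x ^ 2)⁻¹) with hM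
      obtain ⟨m2, m4⟩ := triple_pow hF hc M rfl
      have hMX : M ∈ X := by
        refine mul_mem (mul_mem (hX.mem_up c) (hlow _)) ?_
        rw [show (fun x => c * x ^ 2) = ψ from (funext hs).symm]
        exact hψl _
      exact m2 (by rw [pow_two]; exact hX.sq_eq_one hMX (n := 2) (by simpa using m4))
    · rw [show Function.Injective ψ ↔ _ from injective_iff_map_eq_zero (AddMonoidHom.mk' ψ hψ)] at hinj
      push Not at hinj
      obtain ⟨x, hx, hx0⟩ := hinj
      obtain ⟨t, ht⟩ := hψx x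
      have ht0 : t ≠ 0 := fun e => hx0 (by
        rw [e, show ((0 : F), (0 : F)) = 0 from rfl, (hX.add g hg).map_zero] at ht
        exact (congrArg Prod.fst ht).symm)
      refine ⟨0, fun z => ?_⟩
      rw [zero_mul]
      have := hX.disjoint (mul_mem hτX hg) ht0 (by
        rw [Equiv.Perm.coe_mul, Function.comp_apply, hτv, ht]; exact hx) z
      rwa [Equiv.Perm.coe_mul, Function.comp_apply, hτv] at this
  -- move the image back
  obtain ⟨t, htX, htl, ht⟩ : ∃ t ∈ X, Lin t ∧ ∀ z, ((t * k) (0, z)).1 = 0 := by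
    rcases hline k hk with h | ⟨c, hc⟩
    · exact ⟨1, one_mem _, lin_one, by simpa using h⟩
    · refine ⟨τ * up c, mul_mem hτX (hX.mem_up c), hτl.mul (lin_up c), fun z => ?_⟩
      simp [Equiv.Perm.coe_mul, Function.comp_apply, hτv, up_apply, hc z, CharTwo.add_self_eq_zero]
  set k₁ := t * k with hk₁
  have hk₁X : k₁ ∈ X := mul_mem htX hk
  obtain ⟨c, hc⟩ : ∃ c : F, ∀ x, (k₁ (x, 0)).2 = c * (k₁ (x, 0)).1 := by
    rcases hline (k₁ * τ) (mul_mem hk₁X hτX) with h | ⟨c, hc⟩
    · exfalso
      have := (hX.pres_iff hk₁X ht (1, 0)).1 (by simpa [hτv] using h 1)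
      simpa using this
    · exact ⟨c, fun x => by simpa [hτv] using hc x⟩
  have hd := hX.diag_lin (k := up c * k₁) (mul_mem (hX.mem_up c) hk₁X)
    (fun z => by simpa using ht z) (fun x => by simp [hc x, CharTwo.add_self_eq_zero])
  have e : k = t⁻¹ * (up c * (up c * k₁)) := by
    rw [← mul_assoc (up c), up_mul, CharTwo.add_self_eq_zero, up_zero, one_mul, hk₁, inv_mul_cancel_left]
  rw [e]
  exact htl.inv.mul ((lin_up c).mul hd)

theorem transitive_of_low (hX : PlaneGrp X) (hlow : ∀ s, low s ∈ X) {v : F × F} (hv : v ≠ 0) :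
    ∃ g ∈ X, g (1, 0) = v := by
  have h2 := two_eq hX.card_field (F := F)
  obtain ⟨a, b⟩ := v
  by_cases ha : a = 0
  · subst ha
    have hb : b ≠ 0 := fun e => hv (by rw [e]; rfl)
    refine ⟨low b⁻¹ * up b, mul_mem (hlow _) (hX.mem_up b), ?_⟩
    simp [inv_mul_cancel₀ hb]
    linear_combination h2
  · refine ⟨up ((b - 1) / a) * low (a - 1) * up 1, mul_mem (mul_mem (hX.mem_up _) (hlow _)) (hX.mem_up 1), ?_⟩
    simp [div_mul_cancel₀ _ ha]

/-- `X` is transitive on nonzero vectors unless it fixes `0 × F`. -/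
theorem transitive (hX : PlaneGrp X) {k : Equiv.Perm (F × F)} (hk : k ∈ X) (h : ∃ z, (k (0, z)).1 ≠ 0)
    {v w : F × F} (hv : v ≠ 0) (hw : w ≠ 0) : ∃ g ∈ X, g v = w := by
  obtain ⟨ψ, hψ, -, hl⟩ := hX.exists_shear_low hk h
  have hX' := hX.conj (additive_shear hψ) (fun y => shear_comm_up y)
  have hlow : ∀ s, low s ∈ X.map (MulAut.conj (shear ψ)).toMonoidHom := fun s =>
    ⟨_, hl s, by rw [MulEquiv.coe_toMonoidHom, MulAut.conj_apply, shear_inv]
                 have hs : shear ψ * shear ψ = 1 := by nth_rw 1 [← shear_inv ψ]; exact inv_mul_cancel _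
                 rw [show shear ψ * (shear ψ * low s * shear ψ) * shear ψ =
                   shear ψ * shear ψ * low s * (shear ψ * shear ψ) by group, hs, one_mul, mul_one]⟩
  have hne : ∀ v : F × F, v ≠ 0 → shear ψ v ≠ 0 := fun v hv e =>
    hv ((shear ψ).injective (e.trans (additive_shear hψ).map_zero.symm))
  obtain ⟨_, ⟨g1, hg1, rfl⟩, e1⟩ := hX'.transitive_of_low hlow (hne v hv)
  obtain ⟨_, ⟨g2, hg2, rfl⟩, e2⟩ := hX'.transitive_of_low hlow (hne w hw)
  refine ⟨g2 * g1⁻¹, mul_mem hg2 (inv_mem hg1), ?_⟩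
  simp only [MulEquiv.coe_toMonoidHom, MulAut.conj_apply, Equiv.Perm.coe_mul, Function.comp_apply,
    EmbeddingLike.apply_eq_iff_eq] at e1 e2
  rw [← e1]
  simp only [Equiv.Perm.coe_mul, Function.comp_apply, Equiv.Perm.coe_inv, Equiv.symm_apply_apply]
  simpa using e2

/-- Up to a shear commuting with `upG`, the group is linear. -/
theorem exists_linear (hX : PlaneGrp X) : ∃ u : Equiv.Perm (F × F), Additive' u ∧ (∀ y, u * up y = up y * u) ∧
    ∀ g ∈ X, Lin (u * g * u⁻¹) := by
  classical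
  by_cases h : ∃ k ∈ X, ∃ z, (k (0, z)).1 ≠ 0
  · obtain ⟨k, hk, hz⟩ := h
    obtain ⟨ψ, hψ, -, hl⟩ := hX.exists_shear_low hk hz
    have hX' := hX.conj (additive_shear hψ) (fun y => shear_comm_up y)
    refine ⟨shear ψ, additive_shear hψ, fun y => shear_comm_up y, fun g hg => hX'.lin_of_low (fun s => ?_) ⟨g, hg, rfl⟩⟩
    refine ⟨_, hl s, ?_⟩
    rw [MulEquiv.coe_toMonoidHom, MulAut.conj_apply, shear_inv]
    have hs : shear ψ * shear ψ = 1 := by nth_rw 1 [← shear_inv ψ]; exact inv_mul_cancel _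
    rw [show shear ψ * (shear ψ * low s * shear ψ) * shear ψ =
      shear ψ * shear ψ * low s * (shear ψ * shear ψ) by group, hs, one_mul, mul_one]
  · push Not at h
    haveI : Fact (Nat.Prime 2) := ⟨Nat.prime_two⟩
    obtain ⟨S, hS⟩ := (hX.upG_pGroup.comap_of_injective X.subtype X.subtype_injective).exists_le_sylow
    have hSeq := hX.pre_subgroupOf S hS
    set V := upG.subgroupOf X with hV
    haveI hn : V.Normal := ⟨fun v hv g => by
      obtain ⟨y, hy⟩ := mem_upG.1 (mem_subgroupOf.1 hv)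
      refine mem_subgroupOf.2 (mem_upG.2 ?_)
      obtain ⟨y', hy'⟩ := hX.conj_up g.2 (h g g.2) y
      exact ⟨y', by rw [hy', hy]; rfl⟩⟩
    have hodd : Odd V.index := by
      rw [← hSeq, ← Nat.not_even_iff_odd, even_iff_two_dvd]
      exact S.not_dvd_index
    have hV4 : Nat.card V = 2 ^ 2 := by
      rw [hV, Nat.card_congr (subgroupOfEquivOfLe hX.upG_le).toEquiv, hX.card_upG_eq]; norm_num
    obtain ⟨H, hH⟩ := exists_right_complement'_of_coprime (N := V)
      (hV4 ▸ Nat.Coprime.pow_left 2 (Nat.coprime_two_left.2 hodd))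
    have hHodd : Odd (Nat.card H) := by rw [← hH.symm.index_eq_card]; exact hodd
    haveI : Fintype H := Fintype.ofFinite H
    let q : Equiv.Perm (F × F) → (F × F) → F := fun g v => (g (0, (g⁻¹ v).2)).2
    let P : (F × F) → F := fun v => ∑ a : H, q (a : ↥X) v
    have hq : ∀ a : H, ∀ v w, q (a : ↥X) (v + w) = q (a : ↥X) v + q (a : ↥X) w := fun a v w => by
      simp only [q]
      rw [(hX.add _ (a : ↥X).2).inv, Prod.snd_add,
        show ∀ s t : F, ((0 : F), s + t) = (0, s) + (0, t) from fun s t => by ext <;> simp, hX.add _ (a : ↥X).2]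
      rfl
    have hP : ∀ v w, P (v + w) = P v + P w := fun v w => by
      simp only [P, hq, Finset.sum_add_distrib]
    have hPz : ∀ z, P (0, z) = z := fun z => by
      have e : ∀ a : H, q (a : ↥X) (0, z) = z := fun a => by
        simp only [q]
        set g : Equiv.Perm (F × F) := ↑(a : ↥X)
        have hg : g ∈ X := (a : ↥X).2
        have h1 : (g⁻¹ (0, z)).1 = 0 := (hX.pres_iff hg (h g hg) _).1 (by simp)
        rw [show ((0 : F), (g⁻¹ (0, z)).2) = g⁻¹ (0, z) from Prod.ext h1.symm rfl]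
        simp
      simp only [P, e, Finset.sum_const, Finset.card_univ]
      obtain ⟨r, hr⟩ := hHodd
      rw [← Nat.card_eq_fintype_card, hr, nsmul_eq_mul]
      simp [CharTwo.two_eq_zero]
    set φ := fun x => P (x, 0) with hφ
    have hPv : ∀ v : F × F, P v = v.2 + φ v.1 := fun v => by
      conv_lhs => rw [show v = (0, v.2) + (v.1, 0) by ext <;> simp]
      rw [hP, hPz]
    have hφa : ∀ a b, φ (a + b) = φ a + φ b := fun a b => by
      simp only [hφ]; rw [show (a + b, (0 : F)) = (a, 0) + (b, 0) by ext <;> simp, hP]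
    have hX' := hX.conj (additive_shear hφa) (fun y => shear_comm_up y)
    have hHl : ∀ a : H, Lin (shear φ * ((a : ↥X) : Equiv.Perm (F × F)) * (shear φ)⁻¹) := fun a => by
      set g : Equiv.Perm (F × F) := ↑(a : ↥X) with hgdef
      have hg : g ∈ X := (a : ↥X).2
      have hga := hX.add g hg
      let Ψ : F →+ F := AddMonoidHom.mk' (fun z => (g (0, z)).2) fun s t => by
        rw [show ((0 : F), s + t) = (0, s) + (0, t) by ext <;> simp, hga]; rfl
      have hequi : ∀ v, P (g v) = Ψ (P v) := fun v => by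
        simp only [P, map_sum]
        refine Fintype.sum_equiv (Equiv.mulLeft a⁻¹) _ _ fun b => ?_
        simp only [Equiv.coe_mulLeft, q, Ψ, AddMonoidHom.mk'_apply, Subgroup.coe_mul, Subgroup.coe_inv, ← hgdef]
        set m : Equiv.Perm (F × F) := ↑(b : ↥X)
        have hm : m ∈ X := (b : ↥X).2
        have hmp : (g⁻¹ (m (0, ((g⁻¹ * m)⁻¹ v).2))).1 = 0 :=
          (hX.pres_iff hg (h g hg) _).1 (by simpa using h m hm _)
        rw [show ((0 : F), ((g⁻¹ * m) (0, ((g⁻¹ * m)⁻¹ v).2)).2) = (g⁻¹ * m) (0, ((g⁻¹ * m)⁻¹ v).2) from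
          Prod.ext hmp.symm rfl]
        simp
      refine hX'.diag_lin ⟨g, hg, rfl⟩ (fun z => ?_) fun x => ?_
      · have h0 : φ 0 = 0 := by simpa using hφa 0 0
        rw [Equiv.Perm.coe_mul, Equiv.Perm.coe_mul, Function.comp_apply, Function.comp_apply, shear_inv, shear_apply,
          shear_apply]
        simp only [h0, add_zero]
        exact h g hg z
      · rw [Equiv.Perm.coe_mul, Equiv.Perm.coe_mul, Function.comp_apply, Function.comp_apply, shear_inv, shear_apply,
          shear_apply]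
        simp only [zero_add]
        rw [← hPv, hequi, hPv, CharTwo.add_self_eq_zero, map_zero]
    refine ⟨shear φ, additive_shear hφa, fun y => shear_comm_up y, fun g hg => ?_⟩
    obtain ⟨⟨⟨v, hv⟩, a, ha⟩, e⟩ := hH.2 ⟨g, hg⟩
    obtain ⟨y, hy⟩ := mem_upG.1 (mem_subgroupOf.1 hv)
    have e' : g = up y * ((a : ↥X) : Equiv.Perm (F × F)) := by
      rw [hy]; exact (congrArg Subtype.val e).symm
    rw [e', show shear φ * (up y * ((a : ↥X) : Equiv.Perm (F × F))) * (shear φ)⁻¹ =
      shear φ * up y * (shear φ)⁻¹ * (shear φ * ((a : ↥X) : Equiv.Perm (F × F)) * (shear φ)⁻¹) by group,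
      shear_comm_up, mul_inv_cancel_right]
    exact (lin_up y).mul (hHl ⟨a, ha⟩)

/-- No subgroup normalised by `upG` of odd order moves `(0, 1)` to `(1, 0)`. -/
theorem no_odd_swap (hX : PlaneGrp X) (hlin : ∀ g ∈ X, Lin g) (N : Subgroup (Equiv.Perm (F × F))) (hN : N ≤ X)
    (hconj : ∀ y, ∀ n ∈ N, up y * n * up y ∈ N) (hodd : Odd (Nat.card N)) {n : Equiv.Perm (F × F)} (hn : n ∈ N)
    (hswap : n (0, 1) = (1, 0)) : False := by
  have hF := hX.card_field
  have hnl := hlin n (hN hn)
  have hna := hX.add n (hN hn)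
  have hZ : ∀ z, n (0, z) = (z, 0) := fun z => by
    have := hnl z (0, 1); simpa [hswap] using this
  obtain ⟨p, r, hpr⟩ : ∃ p r, n (1, 0) = (p, r) := ⟨_, _, rfl⟩
  have hnv : ∀ v : F × F, n v = (p * v.1 + v.2, r * v.1) := fun v => by
    conv_lhs => rw [show v = (v.1, 0) + (0, v.2) by ext <;> simp]
    rw [hna, hZ, show (v.1, (0 : F)) = v.1 • ((1 : F), (0 : F)) by ext <;> simp, hnl, hpr]
    ext <;> simp <;> ring
  have hr : r ≠ 0 := fun e => by
    have : n (1, 0) = n (0, p) := by rw [hpr, hZ, e]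
    simpa using congrArg Prod.fst (n.injective this)
  have hcl : ∀ a, n * up a * n⁻¹ = low (a / r) := fun a => by
    rw [mul_inv_eq_iff_eq_mul]
    refine Equiv.ext fun v => ?_
    simp only [Equiv.Perm.coe_mul, Function.comp_apply, up_apply, low_apply, hnv]
    ext
    · simp only; field_simp; ring
    · simp
  have hM : ∀ a, up a * low (a / r) ∈ N := fun a => by
    rw [← hcl a, show up a * (n * up a * n⁻¹) = up a * n * up a * n⁻¹ by group]
    exact mul_mem (hconj a n hn) (inv_mem hn)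
  obtain ⟨w, hw0, hw1⟩ := exists_omega hF
  have hw2 := omega_sq hF hw0 hw1
  have h2 := two_eq hF (F := F)
  set k := r⁻¹ with hk
  have hk3 : k * (k * k) = 1 := mul_inv_self_sq hF (inv_ne_zero hr)
  set P := up (k * w) * low (k * w * k) * (up (k * (w + 1)) * low (k * (w + 1) * k)) with hPdef
  have hPN : P ∈ N := mul_mem (by have := hM (k * w); rwa [div_eq_mul_inv] at this)
    (by have := hM (k * (w + 1)); rwa [div_eq_mul_inv] at this)
  have hPP : P * P = 1 := Equiv.ext fun v => by
    simp only [hPdef, Equiv.Perm.coe_mul, Function.comp_apply, up_apply, low_apply, Equiv.Perm.coe_one, id]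
    ext <;> simp only <;> grind
  have hne : P ≠ 1 := fun e => by
    have := congrArg (fun g : Equiv.Perm (F × F) => g (1, 0)) e
    simp only [hPdef, Equiv.Perm.coe_mul, Function.comp_apply, up_apply, low_apply, Equiv.Perm.coe_one, id,
      Prod.mk.injEq] at this
    grind
  have h2o : orderOf (⟨P, hPN⟩ : ↥N) = 2 := orderOf_eq_prime (by rw [pow_two]; exact Subtype.ext hPP)
    (fun e => hne (congrArg Subtype.val e))
  exact (Nat.not_even_iff_odd.2 hodd) (even_iff_two_dvd.2 (h2o ▸ orderOf_dvd_natCard _))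

end PlaneGrp

end Cfsg.Agent.Fus.L34T
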